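import Cfsg.Agent.H93.PairFit
import Cfsg.Prelude.Def_KGroupFacts

/-!
Type M(22), commuting members `a, b`: the centraliser of `conj (a * b)` in the automorphism group
acts on the joint centraliser modulo its kernel; the kernel of that action.
-/

set_option autoImplicit false

namespace Cfsg.Agent.H18.Fi22Pair

open Cfsg.Agent.H93

variable {K : Type*} [Field K] [Fintype K] {hK : Fintype.card K = 4}
  {G : Type*} [Group G] {D : Set G} {F : Type*} [Field F] [Fintype F] {a b : G}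
  {π : ↥(Subgroup.centralizer ({a} : Set G)) →* Cfsg.PSU 6 K 2}

/-- conjugations are determined by the element -/
theorem conj_inj (h : M22Data D F) {g g' : G} (e : MulAut.conj g = MulAut.conj g') : g = g' := by
  refine inv_mul_eq_one.mp (h.eq_one (k := g⁻¹ * g') fun t _ => ?_)
  have et : g * t * g⁻¹ = g' * t * g'⁻¹ := DFunLike.congr_fun e t
  calc g⁻¹ * g' * t = g⁻¹ * (g' * t * g'⁻¹) * g' := by group
    _ = g⁻¹ * (g * t * g⁻¹) * g' := by rw [et]
    _ = t * (g⁻¹ * g') := by group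

variable (P : PairData hK D (F := F) a b π)

/-- the centraliser of the inner automorphism of the product -/
abbrev Cj (_P : PairData hK D (F := F) a b π) : Subgroup (MulAut G) :=
  Subgroup.centralizer ({MulAut.conj (a * b)} : Set (MulAut G))

/-- conjugating an inner automorphism -/
theorem aut_conj (φ : MulAut G) (g : G) : φ * MulAut.conj g * φ⁻¹ = MulAut.conj (φ g) :=
  MulEquiv.ext fun x => by simp

theorem mem_Cj {φ : MulAut G} : φ ∈ Cj P ↔ φ (a * b) = a * b := by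
  rw [Subgroup.mem_centralizer_singleton_iff]
  constructor
  · intro h
    refine conj_inj P.data ?_
    rw [← aut_conj, h, mul_inv_cancel_right]
  · intro h
    refine mul_inv_eq_iff_eq_mul.mp ?_
    rw [aut_conj, h]

theorem conj_mem_Cj {g : G} : MulAut.conj g ∈ Cj P ↔ g ∈ P.C2 := by
  rw [mem_Cj, MulAut.conj_apply, mul_inv_eq_iff_eq_mul, Subgroup.mem_centralizer_singleton_iff]

variable (hmem : ∀ (φ : MulAut G), ∀ x ∈ D, φ x ∈ D)

include P in
theorem commute_iff_aut (φ : MulAut G) {x y : G} : Commute (φ x) (φ y) ↔ Commute x y :=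
  ⟨fun q => by simpa using q.map φ.symm.toMonoidHom, fun q => q.map φ.toMonoidHom⟩

include hmem

theorem aut_pair {φ : MulAut G} (hφ : φ ∈ Cj P) :
    (φ a = a ∧ φ b = b) ∨ (φ a = b ∧ φ b = a) := by
  have e : φ a * φ b = a * b := by rw [← map_mul]; exact (mem_Cj P).mp hφ
  have htt := P.data.core.tt
  have hne : a ≠ b := P.hbm.2.1.symm
  have hne' : φ a ≠ φ b := fun q => hne (φ.injective q)
  have cab : Commute (φ a) (φ b) := (commute_iff_aut P φ).mpr P.hbm.2.2
  have key := unique_factor' htt P.data.ind 2 (by norm_num) (by norm_num) (a * b) [a, b]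
    [φ a, φ b]
    ⟨by simp [hne], rfl, by simp [P.ha, P.hbm.1], by
      simp only [List.mem_cons, List.not_mem_nil, or_false]
      rintro x (rfl | rfl) y (rfl | rfl)
      exacts [Commute.refl _, P.hbm.2.2, P.hbm.2.2.symm, Commute.refl _], by simp⟩
    ⟨by simpa using hne', rfl, by simp [hmem φ a P.ha, hmem φ b P.hbm.1], by
      simp only [List.mem_cons, List.not_mem_nil, or_false]
      rintro x (rfl | rfl) y (rfl | rfl)
      exacts [Commute.refl _, cab, cab.symm, Commute.refl _], by simpa using e⟩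
  have ka := (key (φ a)).mpr (by simp)
  have kb := (key (φ b)).mpr (by simp)
  simp only [List.mem_cons, List.not_mem_nil, or_false] at ka kb
  rcases ka with ka | ka <;> rcases kb with kb | kb
  · exact absurd (ka.trans kb.symm) hne'
  · exact Or.inl ⟨ka, kb⟩
  · exact Or.inr ⟨ka, kb⟩
  · exact absurd (ka.trans kb.symm) hne'

theorem aut_nb (φ : MulAut G) {x y : G} (hy : y ∈ nb D x) : φ y ∈ nb D (φ x) :=
  ⟨hmem φ y hy.1, fun e => hy.2.1 (φ.injective e), hy.2.2.map φ.toMonoidHom⟩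

theorem aut_K2 {φ : MulAut G} (hφ : φ ∈ Cj P) {k : G} (hk : k ∈ P.K2) : φ k ∈ P.K2 := by
  obtain ⟨ka, kb⟩ := P.mem_K2.mp hk
  have ha' := ka.map φ.toMonoidHom
  have hb' := kb.map φ.toMonoidHom
  rcases aut_pair P hmem hφ with ⟨e1, e2⟩ | ⟨e1, e2⟩ <;>
    simp only [MulEquiv.coe_toMonoidHom, e1, e2] at ha' hb'
  exacts [P.mem_K2.mpr ⟨ha', hb'⟩, P.mem_K2.mpr ⟨hb', ha'⟩]

theorem aut_common {φ : MulAut G} (hφ : φ ∈ Cj P) {z : G} (hz : z ∈ common D a b) :
    φ z ∈ common D a b := by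
  have h1 := aut_nb hmem φ hz.1
  have h2 := aut_nb hmem φ hz.2
  rcases aut_pair P hmem hφ with ⟨e1, e2⟩ | ⟨e1, e2⟩ <;> rw [e1] at h1 <;> rw [e2] at h2
  exacts [⟨h1, h2⟩, ⟨h2, h1⟩]

theorem aut_cl {φ : MulAut G} (hφ : φ ∈ Cj P) {z y : G} (hy : y ∈ Cl D a b z) :
    φ y ∈ Cl D a b (φ z) := by
  refine ⟨aut_common P hmem hφ hy.1, fun w hw hwz => ?_⟩
  have hw' := aut_common P hmem ((Cj P).inv_mem hφ) hw
  have e : φ (φ⁻¹ w) = w := by rw [← MulAut.mul_apply, mul_inv_cancel, MulAut.one_apply]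
  rw [← e] at hwz ⊢
  exact (commute_iff_aut P φ).mpr (hy.2 _ hw' ((commute_iff_aut P φ).mp hwz))

theorem aut_E {φ : MulAut G} (hφ : φ ∈ Cj P) {e : G} (he : e ∈ P.E) : φ e ∈ P.E := by
  refine P.mem_E_iff.mpr ⟨aut_K2 P hmem hφ (P.E_le he), fun z hz => ?_⟩
  have hz' := aut_common P hmem ((Cj P).inv_mem hφ) hz
  have h1 := aut_cl P hmem hφ ((P.mem_E_iff.mp he).2 _ hz')
  rwa [map_mul, map_mul, map_inv, ← MulAut.mul_apply, mul_inv_cancel, MulAut.one_apply] at h1

/-- an automorphism on the joint centraliser -/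
def am (φ : ↥(Cj P)) (k : ↥P.K2) : ↥P.K2 := ⟨(φ : MulAut G) k, aut_K2 P hmem φ.2 k.2⟩

theorem psi_am_congr (φ : ↥(Cj P)) {k k' : ↥P.K2} (e : P.psi k = P.psi k') :
    P.psi (am P hmem φ k) = P.psi (am P hmem φ k') := by
  have hE : ((k⁻¹ * k' : ↥P.K2) : G) ∈ P.E :=
    ⟨k⁻¹ * k', MonoidHom.mem_ker.mpr (by rw [map_mul, map_inv, e, inv_mul_cancel]), rfl⟩
  obtain ⟨e', he', q⟩ := aut_E P hmem φ.2 hE
  have : (am P hmem φ k)⁻¹ * am P hmem φ k' = e' := Subtype.ext (by
    refine Eq.trans ?_ q.symm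
    show ((φ : MulAut G) (k : G))⁻¹ * (φ : MulAut G) (k' : G) = (φ : MulAut G) _
    push_cast
    rw [map_mul, map_inv])
  have h1 : P.psi ((am P hmem φ k)⁻¹ * am P hmem φ k') = 1 := by rw [this]; exact he'
  rw [map_mul, map_inv, inv_mul_eq_one] at h1
  exact h1

/-- the induced map on the quotient -/
noncomputable def actFun (φ : ↥(Cj P)) (A : ↥(Cfsg.SU 4 K 2)) : ↥(Cfsg.SU 4 K 2) :=
  P.psi (am P hmem φ (Function.surjInv P.psi_surjective A))

theorem actFun_psi (φ : ↥(Cj P)) (k : ↥P.K2) :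
    actFun P hmem φ (P.psi k) = P.psi (am P hmem φ k) :=
  psi_am_congr P hmem φ (Function.surjInv_eq P.psi_surjective (P.psi k))

theorem actFun_mul (φ φ' : ↥(Cj P)) (A : ↥(Cfsg.SU 4 K 2)) :
    actFun P hmem (φ * φ') A = actFun P hmem φ (actFun P hmem φ' A) := by
  obtain ⟨k, rfl⟩ := P.psi_surjective A
  rw [actFun_psi, actFun_psi, actFun_psi]
  rfl

theorem actFun_one (A : ↥(Cfsg.SU 4 K 2)) : actFun P hmem 1 A = A := by
  obtain ⟨k, rfl⟩ := P.psi_surjective A
  rw [actFun_psi]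
  rfl

/-- the action on the quotient -/
noncomputable def act4 : ↥(Cj P) →* MulAut ↥(Cfsg.SU 4 K 2) where
  toFun φ :=
    { toFun := actFun P hmem φ
      invFun := actFun P hmem φ⁻¹
      left_inv := fun A => by rw [← actFun_mul, inv_mul_cancel, actFun_one]
      right_inv := fun A => by rw [← actFun_mul, mul_inv_cancel, actFun_one]
      map_mul' := fun A A' => by
        obtain ⟨k, rfl⟩ := P.psi_surjective A
        obtain ⟨k', rfl⟩ := P.psi_surjective A'
        rw [← map_mul, actFun_psi, actFun_psi, actFun_psi, ← map_mul]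
        exact congrArg P.psi (Subtype.ext (map_mul (φ : MulAut G) (k : G) (k' : G))) }
  map_one' := MulEquiv.ext (actFun_one P hmem)
  map_mul' φ φ' := MulEquiv.ext (actFun_mul P hmem φ φ')

theorem act4_psi (φ : ↥(Cj P)) (k : ↥P.K2) : act4 P hmem φ (P.psi k) = P.psi (am P hmem φ k) :=
  actFun_psi P hmem φ k

theorem act4_conj (c : ↥P.C2) :
    act4 P hmem ⟨MulAut.conj (c : G), (conj_mem_Cj P).mpr c.2⟩ = P.phi c := by
  refine MulEquiv.ext fun A => ?_
  obtain ⟨k, rfl⟩ := P.psi_surjective A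
  rw [act4_psi, P.phi_psi]
  rfl

/-- the kernel of the action, in the automorphism group -/
noncomputable def Qs : Subgroup (MulAut G) := (act4 P hmem).ker.map (Cj P).subtype

theorem Qs_le : Qs P hmem ≤ Cj P := Subgroup.map_subtype_le _

theorem Qs_subgroupOf : (Qs P hmem).subgroupOf (Cj P) = (act4 P hmem).ker :=
  Subgroup.comap_map_eq_self_of_injective (Subgroup.subtype_injective _) _

theorem mem_Qs {φ : MulAut G} :
    φ ∈ Qs P hmem ↔ φ ∈ Cj P ∧ ∀ z ∈ common D a b, φ z ∈ Cl D a b z := by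
  constructor
  · rintro ⟨ψ, hψ, rfl⟩
    refine ⟨ψ.2, fun z hz => ?_⟩
    have hzK : z ∈ P.K2 := P.mem_K2.mpr ⟨hz.1.2.2.symm, hz.2.2.2.symm⟩
    refine P.class_of_psi hz (aut_common P hmem ψ.2 hz) hzK (aut_K2 P hmem ψ.2 hzK) ?_
    show P.psi (am P hmem ψ ⟨z, hzK⟩) = _
    rw [← act4_psi, MonoidHom.mem_ker.mp hψ]
    rfl
  · rintro ⟨hφ, hcl⟩
    refine ⟨⟨φ, hφ⟩, MonoidHom.mem_ker.mpr (MulEquiv.ext fun A => ?_), rfl⟩
    obtain ⟨k, rfl⟩ := P.psi_surjective A
    rw [act4_psi, MulAut.one_apply]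
    set d : ↥P.K2 := k⁻¹ * am P hmem ⟨φ, hφ⟩ k with hd
    have hdE : (d : G) ∈ P.E := by
      refine P.mem_E_iff.mpr ⟨d.2, fun z hz => ?_⟩
      have hkC : (k : G) ∈ P.C2 := P.K2_le k.2
      have hz' := aut_common P hmem ((Cj P).inv_mem hφ) hz
      set z' := φ⁻¹ z with hz'def
      have hzz : φ z' = z := by
        rw [hz'def, ← MulAut.mul_apply, mul_inv_cancel, MulAut.one_apply]
      have h0 := hcl z' hz'
      rw [hzz] at h0
      have h1 : (k : G) * z' * (k : G)⁻¹ ∈ Cl D a b ((k : G) * z * (k : G)⁻¹) :=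
        P.cl_conj' hkC (P.cl_symm hz' h0)
      have h2 := cl_trans h1 (hcl _ h1.1)
      rw [map_mul, map_mul, map_inv, hzz] at h2
      have h3 := P.cl_conj' (P.C2.inv_mem hkC) h2
      rw [show (k : G)⁻¹ * ((k : G) * z * (k : G)⁻¹) * (k : G)⁻¹⁻¹ = z by group] at h3
      convert h3 using 1
      rw [hd]
      show (k : G)⁻¹ * φ (k : G) * z * ((k : G)⁻¹ * φ (k : G))⁻¹ = _
      group
    obtain ⟨e', he', q⟩ := hdE
    have hd1 : P.psi d = 1 := by
      rw [show d = e' from Subtype.ext q.symm]; exact he'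
    rw [hd, map_mul, map_inv, inv_mul_eq_one] at hd1
    exact hd1.symm

variable [Finite G] (hext : ∀ x ∈ D, ∃ π' : ↥(Subgroup.centralizer ({x} : Set G)) →* Cfsg.PSU 6 K 2,
      TwoExt π' ⟨x, mem_cent (Commute.refl x)⟩)

include hext

theorem conj_mem_Qs {g : G} : MulAut.conj g ∈ Qs P hmem ↔ g ∈ P.E := by
  constructor
  · rintro ⟨ψ, hψ, q⟩
    have hg : g ∈ P.C2 := (conj_mem_Cj P).mp (q ▸ ψ.2)
    have e : ψ = ⟨MulAut.conj g, (conj_mem_Cj P).mpr hg⟩ := Subtype.ext q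
    have : (⟨g, hg⟩ : ↥P.C2) ∈ P.phi.ker := by
      rw [MonoidHom.mem_ker, ← act4_conj P hmem, ← e]; exact hψ
    rw [P.ker_phi hext] at this
    exact this
  · intro hg
    refine ⟨⟨MulAut.conj g, (conj_mem_Cj P).mpr (P.K2_le (P.E_le hg))⟩, MonoidHom.mem_ker.mpr ?_, rfl⟩
    rw [act4_conj P hmem ⟨g, P.K2_le (P.E_le hg)⟩, ← MonoidHom.mem_ker, P.ker_phi hext]
    exact hg

variable (hcent : ∀ x ∈ D, Subgroup.centralizer ({x} : Set G) = nbSub D x)

include hcent

theorem act4_surjective : Function.Surjective (act4 P hmem) := fun A => by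
  obtain ⟨c, rfl⟩ := P.phi_bijective hext hcent A
  exact ⟨_, act4_conj P hmem c⟩

omit hext hcent

variable (hOut : Nat.card (Cfsg.Out G) = 2)

include hOut

omit hmem in
include P in
theorem sq_inner (φ : MulAut G) : ∃ g : G, φ * φ = MulAut.conj g := by
  have h : ((φ : Cfsg.Out G)) ^ 2 = 1 := by rw [← hOut]; exact pow_card_eq_one'
  rw [← QuotientGroup.mk_pow, QuotientGroup.eq_one_iff, pow_two] at h
  obtain ⟨g, hg⟩ := h
  exact ⟨g, hg.symm⟩

/-- some outer automorphism fixes the product -/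
theorem exists_outer : ∃ φ ∈ Cj P, φ ∉ Cfsg.Inn G := by
  have h := P.data
  haveI : Nontrivial (Cfsg.Out G) := Finite.one_lt_card_iff_nontrivial.mp (by rw [hOut]; norm_num)
  obtain ⟨o, ho⟩ := exists_ne (1 : Cfsg.Out G)
  obtain ⟨φ0, rfl⟩ := QuotientGroup.mk_surjective o
  have hφ0 : φ0 ∉ Cfsg.Inn G := fun q => ho ((QuotientGroup.eq_one_iff _).mpr q)
  obtain ⟨g, hg⟩ := isConj_iff.mp (h.core.cls (φ0 a) (hmem φ0 a P.ha) a P.ha)
  have hb' : g * φ0 b * g⁻¹ ∈ nb D a := hg ▸ h.core.tt.nb_conj g (aut_nb hmem φ0 P.hbm)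
  obtain ⟨k, hk1, hk2, -⟩ := exists_conj_nb h.core hb' P.hbm P.ha ((h.spaces a P.ha).some.sep h.hF)
  refine ⟨MulAut.conj (k * g) * φ0, (mem_Cj P).mpr ?_, fun q => hφ0 ?_⟩
  · have e1 : k * g * φ0 a * (k * g)⁻¹ = a := by
      calc k * g * φ0 a * (k * g)⁻¹ = k * (g * φ0 a * g⁻¹) * k⁻¹ := by group
        _ = a := by rw [hg, hk2]
    have e2 : k * g * φ0 b * (k * g)⁻¹ = b := by
      calc k * g * φ0 b * (k * g)⁻¹ = k * (g * φ0 b * g⁻¹) * k⁻¹ := by group
        _ = b := hk1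
    rw [MulAut.mul_apply, map_mul φ0, MulAut.conj_apply]
    calc k * g * (φ0 a * φ0 b) * (k * g)⁻¹ =
          (k * g * φ0 a * (k * g)⁻¹) * (k * g * φ0 b * (k * g)⁻¹) := by group
      _ = a * b := by rw [e1, e2]
  · have : MulAut.conj (k * g) ∈ Cfsg.Inn G := ⟨_, rfl⟩
    exact ((Cfsg.Inn G).mul_mem_cancel_left this).mp q

include hext hcent

/-- the order of the kernel -/
theorem card_Qs : Nat.card ↥(Qs P hmem) = 2 ^ 11 := by
  let f : ↥(Cj P) →* Cfsg.Out G := (QuotientGroup.mk' (Cfsg.Inn G)).comp (Cj P).subtype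
  have hf : Function.Surjective f := by
    obtain ⟨φ, hφ, hn⟩ := exists_outer P hmem hOut
    intro o
    rcases eq_or_ne o 1 with rfl | ho
    · exact ⟨1, map_one f⟩
    · refine ⟨⟨φ, hφ⟩, ?_⟩
      obtain ⟨c, -, hu⟩ := (Nat.card_eq_two_iff' (1 : Cfsg.Out G)).mp hOut
      have h1 : f ⟨φ, hφ⟩ ≠ 1 := fun q => hn ((QuotientGroup.eq_one_iff _).mp q)
      exact (hu _ h1).trans (hu o ho).symm
  let i : ↥P.C2 →* ↥(Cj P) :=
    (MulAut.conj.comp P.C2.subtype).codRestrict (Cj P) fun c => (conj_mem_Cj P).mpr c.2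
  have hi : Function.Injective i := fun c c' q =>
    Subtype.ext (conj_inj P.data (congrArg Subtype.val q))
  have hker : f.ker = i.range := by
    ext φ
    rw [MonoidHom.mem_ker]
    constructor
    · intro hφ
      obtain ⟨g, hg⟩ := (QuotientGroup.eq_one_iff _).mp hφ
      exact ⟨⟨g, (conj_mem_Cj P).mp (hg ▸ φ.2)⟩, Subtype.ext hg⟩
    · rintro ⟨c, rfl⟩
      exact (QuotientGroup.eq_one_iff _).mpr ⟨(c : G), rfl⟩
  have h1 := Subgroup.card_mul_index f.ker
  rw [Subgroup.index_ker, MonoidHom.range_eq_top.mpr hf, Subgroup.card_top, hOut, hker,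
    ← Nat.card_congr (MonoidHom.ofInjective hi).toEquiv] at h1
  have h2 := Subgroup.card_mul_index (act4 P hmem).ker
  rw [Subgroup.index_ker, MonoidHom.range_eq_top.mpr (act4_surjective P hmem hext hcent),
    Subgroup.card_top, ← h1] at h2
  have h3 := Subgroup.card_mul_index P.phi.ker
  rw [Subgroup.index_ker, MonoidHom.range_eq_top.mpr (P.phi_bijective hext hcent),
    Subgroup.card_top, P.ker_phi hext,
    Nat.card_congr (Subgroup.subgroupOfEquivOfLe (P.E_le.trans P.K2_le)).toEquiv, P.card_E] at h3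
  rw [← h3] at h2
  rw [Qs, ← Nat.card_congr ((act4 P hmem).ker.equivMapOfInjective _
    (Subgroup.subtype_injective _)).toEquiv]
  haveI : Finite (MulAut ↥(Cfsg.SU 4 K 2)) := inferInstance
  refine Nat.eq_of_mul_eq_mul_right (Nat.card_pos (α := MulAut ↥(Cfsg.SU 4 K 2))) ?_
  rw [h2]; ring

end Cfsg.Agent.H18.Fi22Pair
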