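import Cfsg.Agent.H18.Fi22Pair.Trans
import Cfsg.Agent.H18.Fi22Pair.Fix

/-!
Type M(22): class translations are determined by four points; translations fixing `a` are cancelled
by products of pairs.
-/

set_option autoImplicit false

namespace Cfsg.Agent.H18.Fi22Pair

open Cfsg.Agent.H93

variable {K : Type*} [Field K] [Fintype K] {hK : Fintype.card K = 4}
  {G : Type*} [Group G] {D : Set G} {F : Type*} [Field F] [Fintype F] {a b : G}
  {π : ↥(Subgroup.centralizer ({a} : Set G)) →* Cfsg.PSU 6 K 2}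
  (P : PairData hK D (F := F) a b π)

theorem emb_add (c d : Fin 4 → K) : P.basis.emb (c + d) = P.basis.emb c + P.basis.emb d := by
  simp [PointBasis.emb, add_smul, Finset.sum_add_distrib]

theorem emb_smul (k : K) (c : Fin 4 → K) : P.basis.emb (k • c) = k • P.basis.emb c := by
  simp [PointBasis.emb, Finset.smul_sum, smul_smul]

theorem hb_emb (c d : Fin 4 → K) :
    hb (P.basis.emb c) (P.basis.emb d) = ∑ i, c i * d i ^ 2 := by
  rw [P.basis.hb_eq_co hK (P.basis.emb_B c) (P.basis.emb_B d), P.basis.co_emb, P.basis.co_emb, hb4_eq]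

theorem off_emb {c : Fin 4 → K} (hc : c ≠ 0) (h : ∑ i, c i * c i ^ 2 = 0) :
    Off P (P.basis.emb c) := by
  have hB := P.basis.emb_B c
  have hns : ¬ SamePt P.B (P.basis.emb c) := fun ⟨r, hr⟩ => hc (by
    rw [← P.basis.co_emb c, hr, P.basis.co_smul, P.basis.co_B hK, smul_zero])
  exact ⟨⟨fun e => hns ⟨0, by rw [e, zero_smul]⟩, by rw [hb_emb]; exact h⟩, hB, hns⟩

theorem li_emb {c d : Fin 4 → K} (h : ∀ a₁ a₂ : K, a₁ • c + a₂ • d = 0 → a₁ = 0 ∧ a₂ = 0) :
    LinearIndependent K (Fin.snoc ![P.B, P.basis.emb c] (P.basis.emb d)) := by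
  rw [Fintype.linearIndependent_iff]
  intro g hg
  rw [Fin.sum_univ_castSucc, Fin.sum_univ_two] at hg
  simp only [Fin.snoc_castSucc, Fin.snoc_last, Matrix.cons_val_zero, Matrix.cons_val_one] at hg
  have h' := congrArg P.basis.co hg
  simp only [P.basis.co_add, P.basis.co_smul, P.basis.co_B hK, P.basis.co_emb, smul_zero,
    zero_add] at h'
  have co0 : P.basis.co (0 : Vec K) = 0 := funext fun i => hb_zero_left _
  rw [co0] at h'
  obtain ⟨e1, e2⟩ := h _ _ h'
  rw [e1, e2, zero_smul, zero_smul, add_zero, add_zero] at hg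
  have e0 := (smul_eq_zero.mp hg).resolve_right P.pB.1
  intro i
  refine Fin.lastCases e2 (fun i => ?_) i
  fin_cases i
  exacts [e0, e1]

/-- products of pairs -/
def pairSub : Subgroup G :=
  Subgroup.closure {g | ∃ (Y : Vec K) (s : K), Off P Y ∧ P.pt Y * P.pt (Y + s • P.B) = g}

theorem pairSub_le : pairSub P ≤ P.E :=
  (Subgroup.closure_le _).mpr fun _ ⟨_, s, hY, e⟩ => e ▸ P.pair_mem_E' hY.pt hY.orth hY.ne s

theorem pair_mem_pairSub {Y : Vec K} (hY : Off P Y) (s : K) :
    P.pt Y * P.pt (Y + s • P.B) ∈ pairSub P :=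
  Subgroup.subset_closure ⟨Y, s, hY, rfl⟩

/-- four vectors: two hyperbolic pairs -/
def cvec (o : K) : Fin 4 → Fin 4 → K := ![![1, 1, 0, 0], ![1, o, 0, 0], ![0, 0, 1, 1], ![0, 0, 1, o]]

variable {P}

theorem off_cvec {o : K} (ho0 : o ≠ 0) (i : Fin 4) : Off P (P.basis.emb (cvec o i)) := by
  have h3 : o * o ^ 2 = 1 := by rw [← pow_succ', H93.pow_three hK ho0]
  refine off_emb P (fun e => ?_) ?_
  · fin_cases i <;> simp [cvec, funext_iff, Fin.forall_fin_succ] at e
  · rw [Fin.sum_univ_four]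
    fin_cases i <;> simp [cvec, h3, add_self_zero hK]

/-- a translation vanishing on the four vectors vanishes -/
theorem Shift.zero_of_four {φ : MulAut G} {τ : Vec K → K} (hτ : Shift P φ τ) (hi : Inv P τ)
    (ha : φ a = a) {o : K} (ho0 : o ≠ 0) (ho1 : o ≠ 1) (ho : o ^ 2 + o + 1 = 0)
    (h4 : ∀ i, τ (P.basis.emb (cvec o i)) = 0) {X : Vec K} (hX : Off P X) : τ X = 0 := by
  have e2 := two_zero hK
  let Y : Fin 4 → Vec K := fun i => P.basis.emb (cvec o i)
  have hY : ∀ i, Off P (Y i) := off_cvec ho0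
  -- combinations of two orthogonal ones
  have comb : ∀ {U W : Vec K}, Off P U → Off P W → hb U W = 0 →
      LinearIndependent K (Fin.snoc ![P.B, U] W) → τ U = 0 → τ W = 0 → ∀ α β : K,
      ¬ (α = 0 ∧ β = 0) → Off P (α • U + β • W) ∧ τ (α • U + β • W) = 0 := by
    intro U W hU hW hUW hli tU tW α β hne
    by_cases hα : α = 0
    · have hβ : β ≠ 0 := fun q => hne ⟨hα, q⟩
      rw [hα, zero_smul, zero_add]
      exact ⟨off_smul P hW hβ, by rw [hτ.smul hW hβ, tW, mul_zero]⟩
    · have e : α • U + β • W = α • (U + (α⁻¹ * β) • W) := by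
        rw [smul_add, smul_smul, mul_inv_cancel_left₀ hα]
      have hoff : Off P (U + (α⁻¹ * β) • W) := by
        have hs : ¬ SamePt U W := fun ⟨r, hr⟩ => by
          have hne' := hli
          rw [linearIndependent_finSnoc] at hne'
          exact hne'.2 (by
            rw [hr]; exact Submodule.smul_mem _ r (Submodule.subset_span ⟨1, rfl⟩))
        refine ⟨isPt_line hK hU.pt hW.pt hUW hs _, ?_, fun ⟨r, hr⟩ => ?_⟩
        · rw [hb_add_left, hb_smul_left, hU.orth, hW.orth, mul_zero, add_zero]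
        · have := Fintype.linearIndependent_iff.mp hli (Fin.snoc ![r, 1] (α⁻¹ * β)) (by
            rw [Fin.sum_univ_castSucc, Fin.sum_univ_two]
            simp only [Fin.snoc_castSucc, Fin.snoc_last, Matrix.cons_val_zero, Matrix.cons_val_one,
              one_smul]
            rw [add_assoc, ← hr, vec_add_self hK]) (1 : Fin 2).castSucc
          rw [Fin.snoc_castSucc] at this
          exact one_ne_zero this
      rw [e]
      exact ⟨off_smul P hoff hα, by rw [hτ.smul hoff hα, hτ.line ha hU hW hUW hli tU tW, mul_zero]⟩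
  have h02 : hb (Y 0) (Y 2) = 0 := by simp [Y, hb_emb, cvec, Fin.sum_univ_four]
  have h13 : hb (Y 1) (Y 3) = 0 := by simp [Y, hb_emb, cvec, Fin.sum_univ_four]
  have li02 : LinearIndependent K (Fin.snoc ![P.B, Y 0] (Y 2)) := li_emb P fun a₁ a₂ e =>
    ⟨by simpa [cvec] using congrFun e 0, by simpa [cvec] using congrFun e 2⟩
  have li13 : LinearIndependent K (Fin.snoc ![P.B, Y 1] (Y 3)) := li_emb P fun a₁ a₂ e =>
    ⟨by simpa [cvec] using congrFun e 0, by simpa [cvec] using congrFun e 2⟩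
  -- coordinates
  have hdec := P.basis.decomp' hX.orth
  set c := P.basis.co X with hc
  have hc0 : c ≠ 0 := fun q => hX.ne ⟨_, P.basis.eq_smul_of_co hX.orth q⟩
  have hcc : ∑ i, c i * c i ^ 2 = 0 := by
    rw [← hb4_eq, hc, ← P.basis.hb_eq_co hK hX.orth hX.orth]; exact hX.pt.2
  have hv : Off P (P.basis.emb c) := off_emb P hc0 hcc
  have hτv : τ X = τ (P.basis.emb c) := by
    conv_lhs => rw [hdec, add_comm]
    exact hi _ hv _
  rw [hτv]
  set β := (c 0 + c 1) * o with hβ
  set β' := (c 2 + c 3) * o with hβ'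
  set α := c 0 + β with hα
  set α' := c 2 + β' with hα'
  have hsplit : P.basis.emb c = (α • Y 0 + α' • Y 2) + (β • Y 1 + β' • Y 3) := by
    simp only [Y, ← emb_smul, ← emb_add]
    congr 1
    funext i
    fin_cases i <;> simp [cvec, hα, hβ, hα', hβ']
    · linear_combination -(c 0 + c 1) * o * e2
    · linear_combination -(c 0 + c 1) * ho + (c 1) * e2
    · linear_combination -(c 2 + c 3) * o * e2
    · linear_combination -(c 2 + c 3) * ho + (c 3) * e2
  rw [hsplit]
  by_cases hx : α = 0 ∧ α' = 0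
  · rw [hx.1, hx.2, zero_smul, zero_smul, add_zero, zero_add]
    refine (comb (hY 1) (hY 3) h13 li13 (h4 1) (h4 3) β β' fun q => ?_).2
    refine hv.pt.1 ?_
    rw [hsplit, hx.1, hx.2, q.1, q.2]
    simp
  by_cases hy : β = 0 ∧ β' = 0
  · rw [hy.1, hy.2, zero_smul, zero_smul, add_zero, add_zero]
    exact (comb (hY 0) (hY 2) h02 li02 (h4 0) (h4 2) α α' hx).2
  obtain ⟨ox, tx⟩ := comb (hY 0) (hY 2) h02 li02 (h4 0) (h4 2) α α' hx
  obtain ⟨oy, ty⟩ := comb (hY 1) (hY 3) h13 li13 (h4 1) (h4 3) β β' hy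
  set x := α • Y 0 + α' • Y 2 with hxdef
  set y := β • Y 1 + β' • Y 3 with hydef
  have hxy : hb x y + hb y x = 0 := by
    have := hv.pt.2
    rw [hsplit, hb_add_left x y, hb_add_right hK x x y, hb_add_right hK y x y, ox.pt.2, oy.pt.2] at this
    linear_combination this
  by_cases h : hb x y = 0
  · have hli : LinearIndependent K (Fin.snoc ![P.B, x] y) := by
      rw [hxdef, hydef]
      simp only [Y, ← emb_smul, ← emb_add]
      refine li_emb P fun a₁ a₂ e => ?_
      have q0 := congrFun e 0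
      have q1 := congrFun e 1
      have q2 := congrFun e 2
      have q3 := congrFun e 3
      simp [cvec] at q0 q1 q2 q3
      have ho' : o - 1 ≠ 0 := sub_ne_zero.mpr ho1
      have z1 : a₂ * β = 0 := by
        refine (mul_eq_zero.mp (show (o - 1) * (a₂ * β) = 0 by linear_combination q1 - q0)).resolve_left ho'
      have z2 : a₂ * β' = 0 := by
        refine (mul_eq_zero.mp (show (o - 1) * (a₂ * β') = 0 by linear_combination q3 - q2)).resolve_left ho'
      have z3 : a₁ * α = 0 := by linear_combination q0 - z1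
      have z4 : a₁ * α' = 0 := by linear_combination q2 - z2
      refine ⟨?_, ?_⟩
      · by_contra ne
        exact hx ⟨(mul_eq_zero.mp z3).resolve_left ne, (mul_eq_zero.mp z4).resolve_left ne⟩
      · by_contra ne
        exact hy ⟨(mul_eq_zero.mp z1).resolve_left ne, (mul_eq_zero.mp z2).resolve_left ne⟩
    have := hτ.line ha ox oy h hli tx ty 1
    rwa [one_smul] at this
  · have h1 : hb x y = 1 := by
      have hsq : hb x y ^ 2 = hb x y := by
        rw [← hb_conj hK x y]; linear_combination hxy - hb x y * e2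
      exact mul_left_cancel₀ h (by rw [mul_one, ← pow_two]; exact hsq)
    have := hτ.third oy ox h
    rw [h1, one_smul, one_mul, tx, ty, add_zero] at this
    exact this

/-- translations fixing `a` are undone by products of pairs -/
theorem exists_cancel {φ : MulAut G} {τ : Vec K → K} (hτ : Shift P φ τ) (hi : Inv P τ)
    (ha : φ a = a) :
    ∃ e ∈ pairSub P, ∀ z ∈ common D a b, e * φ z * e⁻¹ = z := by
  obtain ⟨o, ho0, ho1, ho⟩ := exists_omega hK
  let Y : Fin 4 → Vec K := fun i => P.basis.emb (cvec o i)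
  have hY : ∀ i, Off P (Y i) := off_cvec ho0
  let j : Fin 4 → Fin 4 := ![1, 0, 3, 2]
  let s : Fin 4 → K := fun i => τ (Y (j i)) * (hb (Y (j i)) (Y i))⁻¹
  let p : Fin 4 → G := fun i => P.pt (Y i) * P.pt (Y i + s i • P.B)
  let f : Fin 4 → Vec K → K := fun i X => hb X (Y i) * s i
  have hp : ∀ i, Shift P (MulAut.conj (p i)) (f i) ∧ Inv P (f i) := fun i => shift_pair (hY i) (s i)
  let e := p 0 * p 1 * p 2 * p 3
  have he : e ∈ pairSub P :=
    mul_mem (mul_mem (mul_mem (pair_mem_pairSub P (hY 0) _) (pair_mem_pairSub P (hY 1) _))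
      (pair_mem_pairSub P (hY 2) _)) (pair_mem_pairSub P (hY 3) _)
  have hse : Shift P (MulAut.conj e) (f 0 + f 1 + f 2 + f 3) := by
    simp only [e, map_mul]
    exact (((hp 0).1.mul (hp 0).2 (hp 1).1).mul ((hp 0).2.add (hp 1).2) (hp 2).1).mul
      (((hp 0).2.add (hp 1).2).add (hp 2).2) (hp 3).1
  have hie : Inv P (f 0 + f 1 + f 2 + f 3) := (((hp 0).2.add (hp 1).2).add (hp 2).2).add (hp 3).2
  have hs' := hse.mul hie hτ
  have ha' : (MulAut.conj e * φ) a = a := by
    rw [MulAut.mul_apply, ha, MulAut.conj_apply]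
    exact (P.conj_fix (P.E_le (pairSub_le P he))).1
  have h3 : o * o ^ 2 = 1 := by rw [← pow_succ', H93.pow_three hK ho0]
  have hne : ∀ i, hb (Y (j i)) (Y i) ≠ 0 := by
    intro i
    have h1 : (1 : K) + o ^ 2 ≠ 0 := fun q => ho0 (by linear_combination ho - q)
    have h2 : (1 : K) + o ≠ 0 := fun q => ho1 (by linear_combination q - two_zero hK)
    fin_cases i <;> simp [Y, j, hb_emb, cvec, Fin.sum_univ_four, h1, h2]
  have z01 : hb (Y 0) (Y 0) = 0 ∧ hb (Y 1) (Y 1) = 0 ∧ hb (Y 2) (Y 2) = 0 ∧ hb (Y 3) (Y 3) = 0 :=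
    ⟨(hY 0).pt.2, (hY 1).pt.2, (hY 2).pt.2, (hY 3).pt.2⟩
  have h4 : ∀ i, (f 0 + f 1 + f 2 + f 3 + τ) (Y i) = 0 := by
    intro i
    have n0 := hne 0
    have n1 := hne 1
    have n2 := hne 2
    have n3 := hne 3
    have zz : ∀ k l : Fin 4, (k = 0 ∨ k = 1) → (l = 2 ∨ l = 3) →
        hb (Y k) (Y l) = 0 ∧ hb (Y l) (Y k) = 0 := by
      rintro k l (rfl | rfl) (rfl | rfl) <;> simp [Y, hb_emb, cvec, Fin.sum_univ_four]
    obtain ⟨a02, a20⟩ := zz 0 2 (Or.inl rfl) (Or.inl rfl)
    obtain ⟨a03, a30⟩ := zz 0 3 (Or.inl rfl) (Or.inr rfl)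
    obtain ⟨a12, a21⟩ := zz 1 2 (Or.inr rfl) (Or.inl rfl)
    obtain ⟨a13, a31⟩ := zz 1 3 (Or.inr rfl) (Or.inr rfl)
    obtain ⟨z0, z1, z2, z3⟩ := z01
    simp only [j, Matrix.cons_val_zero, Matrix.cons_val_one, Matrix.cons_val] at n0 n1 n2 n3
    fin_cases i <;>
      simp [f, s, j, a02, a20, a03, a30, a12, a21, a13, a31, z0, z1, z2, z3] <;>
      field_simp <;> simp [add_self_zero hK]
  refine ⟨e, he, fun z hz => ?_⟩
  obtain ⟨X, hX, hXB, hs, rfl⟩ := P.mem_common_iff.mp hz
  have hoff : Off P X := ⟨hX, hXB, hs⟩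
  have h0 := hs' X hoff
  rw [hs'.zero_of_four (hie.add hi) ha' ho0 ho1 ho h4 hoff, zero_smul, add_zero] at h0
  exact h0

/-- the kernel is generated by pairs and `a`, `b` -/
theorem E_le_pairSub : P.E ≤ pairSub P ⊔ P.V := by
  intro e he
  obtain ⟨τ, hτ, hi⟩ := shift_of_mem_E he
  obtain ⟨p, hp, hpf⟩ := exists_cancel hτ hi (by
    rw [MulAut.conj_apply]; exact (P.conj_fix (P.E_le he)).1)
  have hV : p * e ∈ P.V := P.mem_V_of_commute (P.E_le (mul_mem (pairSub_le P hp) he)) fun z hz => by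
    have := hpf z hz
    rw [MulAut.conj_apply] at this
    refine mul_inv_eq_iff_eq_mul.mp (Eq.trans ?_ this)
    group
  rw [show e = p⁻¹ * (p * e) by group]
  exact Subgroup.mul_mem_sup (inv_mem hp) hV

end Cfsg.Agent.H18.Fi22Pair
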