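import Cfsg.Agent.H18.Fi22Pair.Act
import Cfsg.Agent.H18.Fi22Pair.Four
import Cfsg.Agent.H92.QuotLarge

/-!
Type M(22) with outer automorphism group of order two: the kernel `Qs` is extraspecial and contains
its centraliser.
-/

set_option autoImplicit false

namespace Cfsg.Agent.H18.Fi22Pair

open Cfsg.Agent.H93

variable {K : Type*} [Field K] [Fintype K] {hK : Fintype.card K = 4}
  {G : Type*} [Group G] {D : Set G} {F : Type*} [Field F] [Fintype F] {a b : G}
  {π : ↥(Subgroup.centralizer ({a} : Set G)) →* Cfsg.PSU 6 K 2}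
  {P : PairData hK D (F := F) a b π}

theorem ab_sq (P : PairData hK D (F := F) a b π) : a * b * (a * b) = 1 :=
  P.data.core.tt.sq_of_commute P.ha P.hbm.1 P.hbm.2.2

theorem ab_ne_one (P : PairData hK D (F := F) a b π) : a * b ≠ 1 := fun q => P.hbm.2.1 (by
  have := eq_inv_of_mul_eq_one_right q
  rwa [P.data.core.tt.inv_eq P.ha] at this)

theorem ab_commute (P : PairData hK D (F := F) a b π) {g : G} (hg : g ∈ P.K2) :
    Commute g (a * b) :=
  (P.mem_K2.mp hg).1.mul_right (P.mem_K2.mp hg).2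

theorem ab_mem_E (P : PairData hK D (F := F) a b π) : a * b ∈ P.E :=
  mul_mem P.pair_mem_E.1 P.pair_mem_E.2

variable [Finite G]

/-- central elements of the kernel lie in `V` -/
theorem center_E (P : PairData hK D (F := F) a b π) {e : G} (he : e ∈ P.E)
    (hc : ∀ g ∈ P.E, Commute e g) : e ∈ P.V := by
  obtain ⟨E0, hle, hX, -, -, hcov⟩ := P.exists_extra_part
  have htt := P.data.core.tt
  set Z0 : Set G := ↑((Subgroup.center ↥E0).map E0.subtype) with hZ0
  have hZcard : Z0.ncard = 2 := by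
    rw [hZ0, ← Nat.card_coe_set_eq]
    exact H92.card_center_map hX
  let T : Set G := {g | g ∈ P.E ∧ ∀ h ∈ P.E, Commute g h}
  have hsub : T ⊆ Z0 ∪ (fun g => a * g) '' Z0 := by
    rintro g ⟨hg, hgc⟩
    have hca : ∀ h ∈ P.E, Commute a h := fun h hh => (P.mem_K2.mp (P.E_le hh)).1.symm
    rcases hcov g hg with q | q
    · exact Or.inl ⟨⟨g, q⟩, Subgroup.mem_center_iff.mpr fun x =>
        Subtype.ext (hgc x (hle x.2)).symm.eq, rfl⟩
    · refine Or.inr ⟨a * g, ⟨⟨a * g, q⟩, Subgroup.mem_center_iff.mpr fun x => ?_, rfl⟩, htt.cancel P.ha g⟩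
      exact Subtype.ext ((hca x (hle x.2)).mul_left (hgc x (hle x.2))).symm.eq
  have hVT : (P.V : Set G) ⊆ T := fun v hv =>
    ⟨P.V_le hv, fun h hh => (P.V_cen hv (P.E_le hh)).symm⟩
  have hVcard : 4 ≤ (P.V : Set G).ncard := by
    have h1 : ({1, a, b, a * b} : Set G) ⊆ (P.V : Set G) := fun g hg =>
      P.mem_V.mpr (by simpa using hg)
    refine le_trans (le_of_eq ?_) (Set.ncard_le_ncard h1 (Set.toFinite _))
    have a1 : a ≠ 1 := P.data.core.ne_one a P.ha
    have b1 : b ≠ 1 := P.data.core.ne_one b P.hbm.1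
    have hab : a ≠ b := P.hbm.2.1.symm
    rw [Set.ncard_insert_of_notMem, Set.ncard_insert_of_notMem, Set.ncard_pair]
    · exact fun q => a1 (by simpa using q)
    · simp [hab, b1]
    · simp [a1.symm, b1.symm, (ab_ne_one P).symm]
  have hT : T.ncard ≤ 4 := by
    refine (Set.ncard_le_ncard hsub (Set.toFinite _)).trans ((Set.ncard_union_le _ _).trans ?_)
    have := Set.ncard_image_le (f := fun g => a * g) (Set.toFinite Z0)
    omega
  have := Set.eq_of_subset_of_ncard_le hVT (hT.trans hVcard) (Set.toFinite _)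
  exact this.symm.subset ⟨he, hc⟩

variable (hmem : ∀ (φ : MulAut G), ∀ x ∈ D, φ x ∈ D)
  (hext : ∀ x ∈ D, ∃ π' : ↥(Subgroup.centralizer ({x} : Set G)) →* Cfsg.PSU 6 K 2,
      TwoExt π' ⟨x, mem_cent (Commute.refl x)⟩)
  (hOut : Nat.card (Cfsg.Out G) = 2)

include hmem hext hOut

theorem Qs_sq {φ : MulAut G} (hφ : φ ∈ Qs P hmem) :
    ∃ f ∈ P.E, φ * φ = MulAut.conj f := by
  obtain ⟨f, hf⟩ := sq_inner P hOut φ
  exact ⟨f, (conj_mem_Qs P hmem hext).mp (hf ▸ mul_mem hφ hφ), hf⟩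

theorem Qs_shift {φ : MulAut G} (hφ : φ ∈ Qs P hmem) :
    ∃ τ, Shift P φ τ ∧ Inv P τ := by
  obtain ⟨τ, hτ⟩ := exists_shift (P := P) ((mem_Qs P hmem).mp hφ).2
  obtain ⟨f, hf, hsq⟩ := Qs_sq (P := P) hmem hext hOut hφ
  exact ⟨τ, hτ, hτ.inv hf hsq⟩

/-- the elements of the kernel: induced by `E`, or exchanging the pair -/
theorem Qs_cases {φ : MulAut G} (hφ : φ ∈ Qs P hmem) :
    (∃ e ∈ P.E, φ = MulAut.conj e) ∨ (φ a = b ∧ φ b = a) := by
  have hC := Qs_le P hmem hφ
  refine (aut_pair P hmem hC).imp (fun ⟨fa, fb⟩ => ?_) id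
  obtain ⟨τ, hτ, hi⟩ := Qs_shift (P := P) hmem hext hOut hφ
  obtain ⟨e, he, hfix⟩ := exists_cancel hτ hi fa
  have heE := pairSub_le P he
  obtain ⟨ea, eb⟩ := P.conj_fix (P.E_le heE)
  obtain ⟨g, hg⟩ := inner_of_fix P.data (MulAut.conj e * φ) (hmem _) P.ha P.hbm
    (by rw [MulAut.mul_apply, fa, MulAut.conj_apply, ea])
    (by rw [MulAut.mul_apply, fb, MulAut.conj_apply, eb])
    (fun v hv => by rw [MulAut.mul_apply, MulAut.conj_apply]; exact hfix v hv)
  have e1 : φ = MulAut.conj (e⁻¹ * g) := by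
    rw [map_mul, map_inv, ← hg, inv_mul_cancel_left]
  exact ⟨_, (conj_mem_Qs P hmem hext).mp (e1 ▸ hφ), e1⟩

/-- a swap moves the kernel elements by `a * b` only -/
theorem swap_mul {φ : MulAut G} (hφ : φ ∈ Qs P hmem) (fa : φ a = b) (fb : φ b = a) {e : G}
    (he : e ∈ P.E) : φ e * e⁻¹ = 1 ∨ φ e * e⁻¹ = a * b := by
  classical
  obtain ⟨τ, hτ, -⟩ := Qs_shift (P := P) hmem hext hOut hφ
  have htt := P.data.core.tt
  have hc := P.hbm.2.2
  have he' := E_le_pairSub (P := P) he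
  rw [pairSub, PairData.V, ← Subgroup.closure_union] at he'
  suffices H : e ∈ P.E ∧ (φ e * e⁻¹ = 1 ∨ φ e * e⁻¹ = a * b) from H.2
  clear he
  induction he' using Subgroup.closure_induction with
  | mem x hx =>
    rcases hx with ⟨Y, s, hY, rfl⟩ | rfl | rfl
    · refine ⟨P.pair_mem_E' hY.pt hY.orth hY.ne s, ?_⟩
      obtain ⟨Z, hZi, hZB, hZY⟩ := iso_two hK P.pB.1 hY.ne 0 1
      have hZ : Off P Z := off_of_hb P hY (pt_of_hb_eq_one hZi hZY) hZB
        (by rw [hZY]; exact one_ne_zero)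
      have hYZ : hb Y Z = 1 := hb_one_comm hK hZY
      obtain ⟨hY', hY'B, -⟩ := P.shift hY.pt hY.orth hY.ne s
      have hYs := off_shift P hY s
      set t := τ Y
      set t' := τ (Y + s • P.B)
      obtain ⟨τ', hτ', hi'⟩ := Qs_shift (P := P) hmem hext hOut hφ
      have ti : t' = t := by
        show τ (Y + s • P.B) = τ Y
        rw [hτ.unique hYs (hτ' _ hYs), hτ.unique hY (hτ' _ hY), hi' Y hY]
      set e' := P.pt Z * P.pt (Z + t • P.B)
      have h := (P.pair_comm hZ.pt hZ.orth hZ.ne hY.pt hY.orth hY.ne t s).1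
      have key : φ (P.pt Y * P.pt (Y + s • P.B)) =
          e' * (P.pt Y * P.pt (Y + s • P.B)) * e'⁻¹ := by
        rw [map_mul, hτ Y hY, hτ _ hYs,
          show e' * (P.pt Y * P.pt (Y + s • P.B)) * e'⁻¹ =
            (e' * P.pt Y * e'⁻¹) * (e' * P.pt (Y + s • P.B) * e'⁻¹) by group,
          P.pair_act hZ.pt hZ.orth hZ.ne hY.pt hY.orth, P.pair_act hZ.pt hZ.orth hZ.ne hY' hY'B,
          hb_add_left, hb_smul_left, (hb_eq_zero_comm hK).mp hZ.orth, mul_zero, add_zero, hYZ,
          one_mul]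
        show _ * P.pt (Y + s • P.B + t' • P.B) = _
        rw [ti]
      rw [key]
      exact h
    · refine ⟨P.pair_mem_E.1, Or.inr ?_⟩
      rw [fa, htt.inv_eq P.ha, hc.symm.eq]
    · refine ⟨P.pair_mem_E.2, Or.inr ?_⟩
      rw [fb, htt.inv_eq P.hbm.1]
  | one => exact ⟨one_mem _, Or.inl (by simp)⟩
  | mul x y _ _ hx hy =>
    refine ⟨mul_mem hx.1 hy.1, ?_⟩
    have h1 : φ (x * y) * (x * y)⁻¹ = φ x * (φ y * y⁻¹) * x⁻¹ := by rw [map_mul]; group
    rw [h1]
    rcases hy.2 with q | q <;> rw [q]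
    · rw [mul_one]; exact hx.2
    · rw [show φ x * (a * b) * x⁻¹ = (φ x * x⁻¹) * (x * (a * b) * x⁻¹) by group,
        (ab_commute P (P.E_le hx.1)).eq, mul_inv_cancel_right]
      rcases hx.2 with q' | q' <;> rw [q']
      · exact Or.inr (one_mul _)
      · exact Or.inl (ab_sq P)
  | inv x _ hx =>
    refine ⟨inv_mem hx.1, ?_⟩
    have hab : φ x = x ∨ φ x = (a * b) * x := hx.2.imp mul_inv_eq_one.mp mul_inv_eq_iff_eq_mul.mp
    rcases hab with q | q <;> rw [map_inv, q]
    · exact Or.inl (by group)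
    · refine Or.inr ?_
      rw [mul_inv_rev, inv_inv, (ab_commute P (P.E_le hx.1)).inv_left.inv_right.eq,
        mul_assoc, inv_mul_cancel, mul_one, inv_eq_of_mul_eq_one_left (ab_sq P)]

/-- a swap fixes every product or moves it by `a * b` -/
theorem swap_swap {φ : MulAut G} (hφ : φ ∈ Qs P hmem) (fa : φ a = b) (fb : φ b = a) {e : G}
    (he : e ∈ P.E) : φ (φ e) = e := by
  have hf : φ (a * b) = a * b := (mem_Cj P).mp (Qs_le P hmem hφ)
  rcases swap_mul (P := P) hmem hext hOut hφ fa fb he with q | q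
  · rw [mul_inv_eq_one.mp q, mul_inv_eq_one.mp q]
  · rw [mul_inv_eq_iff_eq_mul.mp q, map_mul, hf, mul_inv_eq_iff_eq_mul.mp q, ← mul_assoc, ab_sq P,
      one_mul]

/-- elements of `V` fixed by a swap -/
theorem fixed_V {φ : MulAut G} (fa : φ a = b) (fb : φ b = a) {v : G} (hv : v ∈ P.V)
    (h : φ v = v) : v = 1 ∨ v = a * b := by
  rcases P.mem_V.mp hv with q | q | q | q
  · exact Or.inl q
  · exact absurd (fa.symm.trans (by rw [← q]; exact h)) P.hbm.2.1
  · exact absurd (fb.symm.trans (by rw [← q]; exact h)) P.hbm.2.1.symm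
  · exact Or.inr q

/-- the square of a swap -/
theorem swap_sq {φ : MulAut G} (hφ : φ ∈ Qs P hmem) (fa : φ a = b) (fb : φ b = a) :
    φ * φ = 1 ∨ φ * φ = MulAut.conj (a * b) := by
  obtain ⟨f, hf, hsq⟩ := Qs_sq (P := P) hmem hext hOut hφ
  have hV : f ∈ P.V := center_E P hf fun g hg => by
    have := DFunLike.congr_fun hsq g
    rw [MulAut.mul_apply, swap_swap (P := P) hmem hext hOut hφ fa fb hg, MulAut.conj_apply] at this
    exact mul_inv_eq_iff_eq_mul.mp this.symm
  have hfix : φ f = f := conj_inj P.data (by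
    rw [← aut_conj, ← hsq, ← mul_assoc, mul_inv_cancel_right])
  rcases fixed_V (P := P) hmem hext hOut fa fb hV hfix with q | q
  · exact Or.inl (by rw [hsq, q, map_one])
  · exact Or.inr (by rw [hsq, q])

variable (hcent : ∀ x ∈ D, Subgroup.centralizer ({x} : Set G) = nbSub D x)

include hcent

theorem exists_swapper : ∃ φ ∈ Qs P hmem, φ a = b ∧ φ b = a := by
  by_contra hno
  have hall : Qs P hmem ≤ P.E.map MulAut.conj := fun φ hφ =>
    (Qs_cases (P := P) hmem hext hOut hφ).elim (fun ⟨e, he, q⟩ => ⟨e, he, q.symm⟩)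
      fun q => absurd ⟨φ, hφ, q⟩ hno
  have h1 := Nat.le_of_dvd Nat.card_pos (Subgroup.card_dvd_of_le hall)
  have h2 := Nat.le_of_dvd Nat.card_pos (Subgroup.card_map_dvd P.E (MulAut.conj : G →* MulAut G))
  rw [card_Qs P hmem hext hcent hOut] at h1
  rw [P.card_E] at h2
  omega

omit hcent in
theorem conj_ab_mem : MulAut.conj (a * b) ∈ Qs P hmem :=
  (conj_mem_Qs P hmem hext).mpr (ab_mem_E P)

/-- the kernel is extraspecial with centre generated by `conj (a * b)` -/
theorem extraspecial : Cfsg.IsExtraspecial 2 ↥(Qs P hmem) ∧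
    ∀ x : ↥(Qs P hmem), x ∈ Subgroup.center ↥(Qs P hmem) →
      (x : MulAut G) = 1 ∨ (x : MulAut G) = MulAut.conj (a * b) := by
  obtain ⟨k, hk, ka, kb⟩ := exists_swapper (P := P) hmem hext hOut hcent
  set ζ := MulAut.conj (a * b) with hζ
  have hab : a ≠ b := P.hbm.2.1.symm
  have hkab : k (a * b) = a * b := (mem_Cj P).mp (Qs_le P hmem hk)
  have memJ : ∀ {e : G}, e = 1 ∨ e = a * b → MulAut.conj e = 1 ∨ MulAut.conj e = ζ := fun h =>
    h.imp (fun q => by rw [q, map_one]) fun q => by rw [q]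
  have ζc : ∀ φ ∈ Qs P hmem, φ * ζ = ζ * φ := fun φ hφ => by
    have := Qs_le P hmem hφ
    exact Subgroup.mem_centralizer_singleton_iff.mp this
  -- a swap and an inner element
  have mixed : ∀ φ ∈ Qs P hmem, φ a = b → φ b = a → ∀ e ∈ P.E,
      φ * MulAut.conj e * φ⁻¹ * (MulAut.conj e)⁻¹ = 1 ∨
        φ * MulAut.conj e * φ⁻¹ * (MulAut.conj e)⁻¹ = ζ := fun φ hφ fa fb e he => by
    rw [aut_conj, ← map_inv, ← map_mul]
    exact memJ (swap_mul (P := P) hmem hext hOut hφ fa fb he)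
  have hcomm : ∀ x ∈ Qs P hmem, ∀ y ∈ Qs P hmem,
      x * y * x⁻¹ * y⁻¹ = 1 ∨ x * y * x⁻¹ * y⁻¹ = ζ := by
    intro x hx y hy
    rcases Qs_cases (P := P) hmem hext hOut hx with ⟨e, he, rfl⟩ | ⟨xa, xb⟩
    · rcases Qs_cases (P := P) hmem hext hOut hy with ⟨e', he', rfl⟩ | ⟨ya, yb⟩
      · have hm := (P.E_comm he he').1
        rw [← map_inv, ← map_inv, ← map_mul, ← map_mul, ← map_mul]
        refine memJ (fixed_V (P := P) hmem hext hOut ka kb hm ?_)
        have q1 : k e = e ∨ k e = (a * b) * e :=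
          (swap_mul (P := P) hmem hext hOut hk ka kb he).imp mul_inv_eq_one.mp mul_inv_eq_iff_eq_mul.mp
        have q2 : k e' = e' ∨ k e' = (a * b) * e' :=
          (swap_mul (P := P) hmem hext hOut hk ka kb he').imp mul_inv_eq_one.mp mul_inv_eq_iff_eq_mul.mp
        obtain ⟨c, cc, hce⟩ : ∃ c, (∀ g ∈ P.K2, Commute c g) ∧ k e = c * e :=
          q1.elim (fun q => ⟨1, fun g _ => Commute.one_left g, by rw [q, one_mul]⟩)
            fun q => ⟨a * b, fun g hg => (ab_commute P hg).symm, q⟩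
        obtain ⟨c', cc', hce'⟩ : ∃ c, (∀ g ∈ P.K2, Commute c g) ∧ k e' = c * e' :=
          q2.elim (fun q => ⟨1, fun g _ => Commute.one_left g, by rw [q, one_mul]⟩)
            fun q => ⟨a * b, fun g hg => (ab_commute P hg).symm, q⟩
        have e1 := P.E_le he
        have e1' := P.E_le he'
        have e2' : c' * e' ∈ P.K2 := by rw [← hce']; exact aut_K2 P hmem (Qs_le P hmem hk) e1'
        rw [map_mul, map_mul, map_mul, map_inv, map_inv, hce, hce']
        calc c * e * (c' * e') * (c * e)⁻¹ * (c' * e')⁻¹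
            = c * (e * (c' * e') * e⁻¹) * c⁻¹ * (c' * e')⁻¹ := by group
          _ = e * (c' * e') * e⁻¹ * (c' * e')⁻¹ := by
              rw [(cc _ (mul_mem (mul_mem e1 e2') (inv_mem e1))).eq, mul_inv_cancel_right]
          _ = (e * c' * e⁻¹) * (e * e' * e⁻¹ * e'⁻¹) * c'⁻¹ := by group
          _ = e * e' * e⁻¹ * e'⁻¹ := by
              rw [← (cc' e e1).eq, mul_inv_cancel_right, (cc' _ (P.E_le
                (mul_mem (mul_mem (mul_mem he he') (inv_mem he)) (inv_mem he')))).eq,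
                mul_inv_cancel_right]
      · rw [show MulAut.conj e * y * (MulAut.conj e)⁻¹ * y⁻¹ =
          (y * MulAut.conj e * y⁻¹ * (MulAut.conj e)⁻¹)⁻¹ by group]
        rcases mixed y hy ya yb e he with q | q <;> rw [q]
        · exact Or.inl inv_one
        · exact Or.inr (inv_eq_of_mul_eq_one_left (by rw [hζ, ← map_mul, ab_sq P, map_one]))
    · rcases Qs_cases (P := P) hmem hext hOut hy with ⟨e', he', rfl⟩ | ⟨ya, yb⟩
      · exact mixed x hx xa xb e' he'
      · rcases Qs_cases (P := P) hmem hext hOut (mul_mem (inv_mem hx) hy) with ⟨e, he, q⟩ | ⟨za, -⟩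
        · have hy' : y = x * MulAut.conj e := by rw [← q, mul_inv_cancel_left]
          rw [hy', show x * (x * MulAut.conj e) * x⁻¹ * (x * MulAut.conj e)⁻¹ =
            x * (x * MulAut.conj e * x⁻¹ * (MulAut.conj e)⁻¹) * x⁻¹ by group]
          rcases mixed x hx xa xb e he with q' | q' <;> rw [q']
          · exact Or.inl (by group)
          · exact Or.inr (by rw [ζc x hx, mul_inv_cancel_right])
        · exfalso
          refine hab (Eq.trans ?_ za)
          rw [MulAut.mul_apply, ya]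
          rw [← xa]
          rw [← MulAut.mul_apply, inv_mul_cancel, MulAut.one_apply]
  have hsq : ∀ x ∈ Qs P hmem, x * x = 1 ∨ x * x = ζ := by
    intro x hx
    rcases Qs_cases (P := P) hmem hext hOut hx with ⟨e, he, rfl⟩ | ⟨xa, xb⟩
    · rw [← map_mul]
      refine memJ (fixed_V (P := P) hmem hext hOut ka kb (pow_two e ▸ (P.E_comm he he).2) ?_)
      rcases swap_mul (P := P) hmem hext hOut hk ka kb he with q | q
      · rw [map_mul, mul_inv_eq_one.mp q]
      · rw [map_mul, mul_inv_eq_iff_eq_mul.mp q, mul_assoc (a * b) e, ← mul_assoc e (a * b) e,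
          (ab_commute P (P.E_le he)).eq, mul_assoc (a * b) e e, ← mul_assoc (a * b) (a * b),
          ab_sq P, one_mul]
    · exact swap_sq (P := P) hmem hext hOut hx xa xb
  have hcen : ∀ x ∈ Qs P hmem, (∀ y ∈ Qs P hmem, y * x = x * y) → x = 1 ∨ x = ζ := by
    intro x hx hc
    rcases Qs_cases (P := P) hmem hext hOut hx with ⟨e, he, rfl⟩ | ⟨xa, -⟩
    · refine memJ (fixed_V (P := P) hmem hext hOut ka kb (center_E P he fun g hg => ?_) ?_)
      · have := hc _ ((conj_mem_Qs P hmem hext).mpr hg)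
        rw [← map_mul, ← map_mul] at this
        exact (conj_inj P.data this).symm
      · refine conj_inj P.data ?_
        rw [← aut_conj, hc k hk, mul_inv_cancel_right]
    · exfalso
      have := hc _ ((conj_mem_Qs P hmem hext).mpr P.pair_mem_E.1)
      refine hab (conj_inj P.data ?_)
      rw [← xa, ← aut_conj, ← this, mul_inv_cancel_right]
  have hp : IsPGroup 2 ↥(Qs P hmem) := IsPGroup.of_card (card_Qs P hmem hext hcent hOut)
  refine ⟨H92.isExtraspecial_of_center_two hp (ζ := ⟨ζ, conj_ab_mem (P := P) hmem hext hOut⟩)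
    (fun q => ab_ne_one P (conj_inj P.data (by
      rw [map_one]; exact congrArg Subtype.val q)))
    (fun y => Subtype.ext (ζc y y.2)) (fun x hx => ?_) (fun x y => ?_) (fun x => ?_)
    (by rw [card_Qs P hmem hext hcent hOut]; norm_num), fun x hx => ?_⟩
  · exact (hcen x x.2 fun y hy => congrArg Subtype.val (hx ⟨y, hy⟩)).imp Subtype.ext Subtype.ext
  · exact (hcomm x x.2 y y.2).imp Subtype.ext Subtype.ext
  · exact (hsq x x.2).imp Subtype.ext Subtype.ext
  · exact hcen x x.2 fun y hy => congrArg Subtype.val (Subgroup.mem_center_iff.mp hx ⟨y, hy⟩)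

end Cfsg.Agent.H18.Fi22Pair
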