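import Cfsg.Agent.H18.Fi22Pair.Extra
import Mathlib.GroupTheory.FixedPointFree
import Cfsg.Prelude.Def_MonsterType

/-!
Type M(22) with outer automorphism group of order two: the centraliser of `conj (a * b)` in the
automorphism group has generalised Fitting subgroup `Qs`, which is large.
-/

set_option autoImplicit false

namespace Cfsg.Agent.H18.Fi22Pair

open Cfsg.Agent.H93

variable {K : Type*} [Field K] [Fintype K] {hK : Fintype.card K = 4}
  {G : Type*} [Group G] {D : Set G} {F : Type*} [Field F] [Fintype F] {a b : G}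
  {π : ↥(Subgroup.centralizer ({a} : Set G)) →* Cfsg.PSU 6 K 2}
  {P : PairData hK D (F := F) a b π} [Finite G]
  (hmem : ∀ (φ : MulAut G), ∀ x ∈ D, φ x ∈ D)
  (hext : ∀ x ∈ D, ∃ π' : ↥(Subgroup.centralizer ({x} : Set G)) →* Cfsg.PSU 6 K 2,
      TwoExt π' ⟨x, mem_cent (Commute.refl x)⟩)
  (hOut : Nat.card (Cfsg.Out G) = 2)
  (hcent : ∀ x ∈ D, Subgroup.centralizer ({x} : Set G) = nbSub D x)

include hmem hext hOut hcent

/-- the centraliser of the kernel lies in it -/
theorem centralizer_le : Subgroup.centralizer (Qs P hmem : Set (MulAut G)) ≤ Qs P hmem := by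
  intro φ hφ
  have hC : φ ∈ Cj P := Subgroup.mem_centralizer_singleton_iff.mpr
    (Subgroup.mem_centralizer_iff.mp hφ _ (conj_ab_mem (P := P) hmem hext hOut)).symm
  have hE : ∀ e ∈ P.E, φ e = e := fun e he => conj_inj P.data (by
    have := Subgroup.mem_centralizer_iff.mp hφ _ ((conj_mem_Qs P hmem hext).mpr he)
    rw [← aut_conj, ← this, mul_inv_cancel_right])
  have htt := P.data.core.tt
  refine (mem_Qs P hmem).mpr ⟨hC, fun z hz => ?_⟩
  obtain ⟨X, hX, hXB, hs, rfl⟩ := P.mem_common_iff.mp hz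
  have hoff : Off P X := ⟨hX, hXB, hs⟩
  obtain ⟨hX1, hX1B, -⟩ := P.shift hX hXB hs 1
  set u1 := P.pt X
  set u2 := P.pt (X + (1 : K) • P.B)
  have hne : u1 ≠ u2 := fun e => by
    have := shift_inj P hoff (r := 0) (r' := 1) (by rw [zero_smul, add_zero]; exact e)
    exact zero_ne_one this
  have m1 := (P.xs.sp.mem hX).1
  have m2 := (P.xs.sp.mem hX1).1
  have c12 : Commute u1 u2 := (P.xs.sp.comm hX hX1).mpr (by
    rw [hb_add_right hK, hb_smul_right, hX.2, hXB, mul_zero, add_zero])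
  have hprod : φ u1 * φ u2 = u1 * u2 := by
    rw [← map_mul]; exact hE _ (P.pair_mem_E' hX hXB hs 1)
  have cc : Commute (φ u1) (φ u2) := c12.map φ.toMonoidHom
  have key := unique_factor' htt P.data.ind 2 (by norm_num) (by norm_num) (u1 * u2) [u1, u2]
    [φ u1, φ u2]
    ⟨by simpa using hne, rfl, by
      simp only [List.mem_cons, List.not_mem_nil, or_false]
      rintro p (rfl | rfl)
      exacts [m1, m2], by
      simp only [List.mem_cons, List.not_mem_nil, or_false]
      rintro p (rfl | rfl) q (rfl | rfl)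
      exacts [Commute.refl _, c12, c12.symm, Commute.refl _], by simp⟩
    ⟨by simpa using hne, rfl, by
      simp only [List.mem_cons, List.not_mem_nil, or_false]
      rintro p (rfl | rfl)
      exacts [hmem φ _ m1, hmem φ _ m2], by
      simp only [List.mem_cons, List.not_mem_nil, or_false]
      rintro p (rfl | rfl) q (rfl | rfl)
      exacts [Commute.refl _, cc, cc.symm, Commute.refl _], by simpa using hprod⟩
  have := (key (φ u1)).mpr (by simp)
  simp only [List.mem_cons, List.not_mem_nil, or_false] at this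
  rcases this with q | q <;> rw [q]
  · exact (P.cl_iff hX hXB hs).mpr ⟨0, by rw [zero_smul, add_zero]⟩
  · exact (P.cl_iff hX hXB hs).mpr ⟨1, rfl⟩

/-- the centre is the product -/
theorem center_eq : (Subgroup.center ↥(Qs P hmem)).map (Qs P hmem).subtype =
    Subgroup.zpowers (MulAut.conj (a * b)) := by
  obtain ⟨hx, hcen⟩ := extraspecial (P := P) hmem hext hOut hcent
  refine le_antisymm ?_ (Subgroup.zpowers_le.mpr ?_)
  · rintro _ ⟨x, hx', rfl⟩
    rcases hcen x hx' with q | q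
    · rw [Subgroup.coe_subtype, q]; exact one_mem _
    · rw [Subgroup.coe_subtype, q]; exact Subgroup.mem_zpowers _
  · refine ⟨⟨_, conj_ab_mem (P := P) hmem hext hOut⟩, Subgroup.mem_center_iff.mpr fun y => ?_, rfl⟩
    exact Subtype.ext (Subgroup.mem_centralizer_singleton_iff.mp (Qs_le P hmem y.2))

/-- the generalised Fitting subgroup of the centraliser -/
theorem genFitting_Cj : Cfsg.generalizedFittingSubgroup ↥(Cj P) = (Qs P hmem).subgroupOf (Cj P) := by
  haveI hn : ((Qs P hmem).subgroupOf (Cj P)).Normal :=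
    Qs_subgroupOf P hmem ▸ MonoidHom.normal_ker _
  have hp : IsPGroup 2 ↥((Qs P hmem).subgroupOf (Cj P)) :=
    IsPGroup.of_card (n := 11) (by
      rw [Nat.card_congr (Subgroup.subgroupOfEquivOfLe (Qs_le P hmem)).toEquiv,
        card_Qs P hmem hext hcent hOut])
  refine le_antisymm (Components.genFitting_le_of_centralizer_le _ ?_ ?_)
    (le_sup_of_le_right (Cores.le_fittingSubgroup hp.isNilpotent))
  · refine sSup_le fun N ⟨hNn, hNnil⟩ => ?_
    haveI := hNn
    haveI := hNnil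
    rw [Qs_subgroupOf, ← Subgroup.map_eq_bot_iff]
    haveI : (N.map (act4 P hmem)).Normal := hNn.map _ (act4_surjective P hmem hext hcent)
    haveI : IsSimpleGroup ↥(Cfsg.SU 4 K 2) := by
      haveI := Cfsg.Agent.Unitary.isSimpleGroup_PSU (n := 4) (card_eq_sq hK) (by norm_num)
        (by norm_num)
      have e : ↥(Cfsg.SU 4 K 2) ≃* Cfsg.PSU 4 K 2 :=
        ((QuotientGroup.quotientMulEquivOfEq P.center_su4).trans QuotientGroup.quotientBot).symm
      exact e.isSimpleGroup
    refine nilpotent_normal_aut_eq_bot P.center_su4 _ ?_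
    exact nilpotent_of_surjective ((act4 P hmem).subgroupMap N)
      ((act4 P hmem).subgroupMap_surjective N)
  · intro c hc
    refine Subgroup.mem_subgroupOf.mpr (centralizer_le hmem hext hOut hcent
      (Subgroup.mem_centralizer_iff.mpr fun q hq => ?_))
    exact congrArg Subtype.val (hc ⟨q, Qs_le P hmem hq⟩ (Subgroup.mem_subgroupOf.mpr hq))

omit hmem hext hOut hcent in
/-- the product of two members determines their common centraliser in the class -/
theorem no_common (P : PairData hK D (F := F) a b π) {X : Vec K} (hX : IsPt X) (h : hb X P.B ≠ 0)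
    {g : G} (ga : Commute g a) (gb : g * b * g⁻¹ = P.pt X)
    (hall : ∀ e ∈ P.E, Commute (P.pt X * b) (e * (P.pt X * b) * e⁻¹)) : False := by
  have htt := P.data.core.tt
  set η := hb X P.B with hη
  have hsBX : ¬ SamePt P.B X := fun ⟨r, hr⟩ => h (by rw [hη, hr, hb_smul_left, P.pB.2, mul_zero])
  have hBX : hb P.B X = η ^ 2 := hb_conj hK X P.B
  obtain ⟨Y, hYi, hYB, hYX, hY0⟩ : ∃ Y : Vec K, hb Y Y = 0 ∧ hb Y P.B = 0 ∧ hb Y X = 0 ∧
      Y ∉ Submodule.span K (Set.range ![P.B, X]) := by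
    obtain ⟨e₁, hYl⟩ := exists_extra hK (indep_pair P.pB.1 hsBX) (Or.inl le_rfl)
    obtain ⟨hul, hus⟩ := hYl
    obtain ⟨Z, hZi, hZl⟩ := iso_solve hK
      (linearIndependent_finSnoc.mpr ⟨indep_pair P.pB.1 hsBX, hus⟩ :
        LinearIndependent K (Fin.snoc ![P.B, X] e₁))
      (Fin.snoc ![0, 0] 1) (Or.inr ⟨rfl, (1 : Fin 2).castSucc, (0 : Fin 2).castSucc, by
        rw [Fin.snoc_castSucc, Fin.snoc_castSucc]; exact h⟩)
    have z0 := hZl (0 : Fin 2).castSucc
    have z1 := hZl (1 : Fin 2).castSucc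
    have z2 := hZl (Fin.last 2)
    rw [Fin.snoc_castSucc, Fin.snoc_castSucc] at z0 z1
    rw [Fin.snoc_last, Fin.snoc_last] at z2
    simp only [Matrix.cons_val_zero, Matrix.cons_val_one] at z0 z1
    refine ⟨Z, hZi, z0, z1, fun q => ?_⟩
    obtain ⟨d, hd⟩ := (Submodule.mem_span_range_iff_exists_fun K).mp q
    simp only [Fin.sum_univ_two, Matrix.cons_val_zero, Matrix.cons_val_one] at hd
    have u0 := (hb_eq_zero_comm hK).mp (hul 0)
    have u1 := (hb_eq_zero_comm hK).mp (hul 1)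
    simp only [Matrix.cons_val_zero, Matrix.cons_val_one] at u0 u1
    rw [← hd, hb_add_left, hb_smul_left, hb_smul_left, u0, u1, mul_zero, mul_zero, add_zero] at z2
    exact zero_ne_one z2
  have hYp : IsPt Y := ⟨fun q => hY0 (q ▸ Submodule.zero_mem _), hYi⟩
  have hsY : ¬ SamePt P.B Y := fun ⟨r, hr⟩ =>
    hY0 (hr ▸ Submodule.smul_mem _ r (Submodule.subset_span ⟨0, rfl⟩))
  have hXY : hb X Y = 0 := (hb_eq_zero_comm hK).mp hYX
  have hBY : hb P.B Y = 0 := (hb_eq_zero_comm hK).mp hYB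
  obtain ⟨hY1, hY1B, -⟩ := P.shift hYp hYB hsY 1
  set e := P.pt Y * P.pt (Y + (1 : K) • P.B) with he
  have heE : e ∈ P.E := P.pair_mem_E' hYp hYB hsY 1
  -- the image of `X` under the pair
  have hη3 : η ^ 3 = 1 := H93.pow_three hK h
  set X' := X + η • Y + η • P.B with hX'
  have v1 : hb X (Y + (1 : K) • P.B) = η := by
    rw [hb_add_right hK, hb_smul_right, hXY, one_pow, one_mul, zero_add]
  have p1 := isPt_third hK hY1 hX
  have v2 : hb (X + hb X (Y + (1 : K) • P.B) • (Y + (1 : K) • P.B)) Y = 0 := by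
    rw [hb_add_left, hb_smul_left, hb_add_left, hb_smul_left, hXY, hYi, hBY]; ring
  have eX : e * P.pt X * e⁻¹ = P.pt X' := by
    have t1 := P.xs.sp.third hY1 hX
    have t2 := P.xs.sp.third hYp p1
    rw [v2, zero_smul, add_zero, v1, smul_add, smul_smul, mul_one, ← add_assoc] at t2
    rw [v1, smul_add, smul_smul, mul_one, ← add_assoc] at t1
    rw [← hX'] at t1 t2
    rw [he, mul_inv_rev, show (P.pt Y)⁻¹ = P.pt Y from htt.inv_eq (P.xs.sp.mem hYp).1,
      show (P.pt (Y + (1 : K) • P.B))⁻¹ = P.pt (Y + (1 : K) • P.B) from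
        htt.inv_eq (P.xs.sp.mem hY1).1]
    show P.xs.sp.pt Y * P.xs.sp.pt (Y + (1 : K) • P.B) * P.xs.sp.pt X *
      (P.xs.sp.pt (Y + (1 : K) • P.B) * P.xs.sp.pt Y) = P.xs.sp.pt X'
    rw [show P.xs.sp.pt Y * P.xs.sp.pt (Y + (1 : K) • P.B) * P.xs.sp.pt X *
      (P.xs.sp.pt (Y + (1 : K) • P.B) * P.xs.sp.pt Y) = P.xs.sp.pt Y *
      (P.xs.sp.pt (Y + (1 : K) • P.B) * P.xs.sp.pt X * P.xs.sp.pt (Y + (1 : K) • P.B)) *
        P.xs.sp.pt Y by group, t1, t2]
  have hX'p : IsPt X' := by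
    have := p1
    rwa [v1, smul_add, smul_smul, mul_one, ← add_assoc] at this
  have eb : e * b * e⁻¹ = b := (P.conj_fix (P.E_le heE)).2
  set T := P.pt X * b with hT
  have hh := hall e heE
  rw [show e * T * e⁻¹ = (e * P.pt X * e⁻¹) * (e * b * e⁻¹) by rw [hT]; group, eX, eb] at hh
  -- a member commuting with both
  have hli : LinearIndependent K (Fin.snoc ![P.B, X] Y) :=
    linearIndependent_finSnoc.mpr ⟨indep_pair P.pB.1 hsBX, hY0⟩
  obtain ⟨w, hwi, hwl⟩ := iso_solve hK hli (Fin.snoc ![0, 1] η)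
    (Or.inr ⟨rfl, (1 : Fin 2).castSucc, (0 : Fin 2).castSucc, by
      rw [Fin.snoc_castSucc, Fin.snoc_castSucc]; exact h⟩)
  have w0 := hwl (0 : Fin 2).castSucc
  have w1 := hwl (1 : Fin 2).castSucc
  have w2 := hwl (Fin.last 2)
  rw [Fin.snoc_castSucc, Fin.snoc_castSucc] at w0 w1
  rw [Fin.snoc_last, Fin.snoc_last] at w2
  simp only [Matrix.cons_val_zero, Matrix.cons_val_one] at w0 w1
  have hw := pt_of_hb_eq_one hwi w1
  have wX' : hb w X' = 0 := by
    rw [hX', hb_add_right hK, hb_add_right hK, hb_smul_right, hb_smul_right, w0, w1, w2]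
    linear_combination hη3 + two_zero hK
  have cb : Commute (P.pt w) b := by
    have := (P.xs.sp.comm hw P.pB).mpr w0
    rwa [P.hB] at this
  have cX' : Commute (P.pt w) (P.pt X') := (P.xs.sp.comm hw hX'p).mpr wX'
  have cprod : Commute (P.pt w) (P.pt X' * b) := cX'.mul_right cb
  -- transport by `T`
  have hwT : Commute (T * P.pt w * T⁻¹) (P.pt X' * b) := by
    have h1 := (commute_conj (g := T)).mpr cprod
    rwa [hh.eq, mul_inv_cancel_right] at h1
  have hwTD : T * P.pt w * T⁻¹ ∈ D := htt.conj_mem T _ (P.xs.sp.mem hw).1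
  have hne : P.pt X' ≠ b := fun q => by
    obtain ⟨r, hr⟩ := (P.xs.sp.same hX'p P.pB).mp (q.trans P.hB.symm)
    have := congrArg (fun v => hb v P.B) hr
    simp only [hX', P.pB.2, hb_smul_left, hb_add_left, hYB, mul_zero, add_zero] at this
    exact h ((mul_eq_zero.mp this.symm).resolve_left fun q' => P.pB.1 (by rw [hr, q', zero_smul]))
  obtain ⟨-, k2⟩ := htt.commute_of_commute_mul hwTD (P.xs.sp.mem hX'p).1 P.hbm.1 hne hwT
  -- so `w` is orthogonal to the moved `B`
  have k3 := (commute_conj (g := T⁻¹)).mpr k2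
  rw [show T⁻¹ * (T * P.pt w * T⁻¹) * T⁻¹⁻¹ = P.pt w by group] at k3
  have eTb : T⁻¹ * b * T⁻¹⁻¹ = b * (P.pt X * b * P.pt X) * b := by
    rw [hT, mul_inv_rev, mul_inv_rev, inv_inv, inv_inv,
      show (P.pt X)⁻¹ = P.pt X from htt.inv_eq (P.xs.sp.mem hX).1, htt.inv_eq P.hbm.1]
    group
  have k4 : Commute (P.pt w) (P.pt X * b * P.pt X) := by
    rw [eTb] at k3
    have := (commute_conj (g := b)).mpr k3
    rw [htt.inv_eq P.hbm.1, cb.symm.eq, mul_assoc, htt.sq b P.hbm.1, mul_one,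
      show b * (b * (P.pt X * b * P.pt X) * b) * b = b * b * (P.pt X * b * P.pt X) * (b * b) by group,
      htt.sq b P.hbm.1, one_mul, mul_one] at this
    exact this
  have k5 : Commute (P.xs.sp.pt w) (P.xs.sp.pt (P.B + hb P.B X • X)) := by
    rw [← P.xs.sp.third hX P.pB, P.hB]; exact k4
  have := (P.xs.sp.comm hw (isPt_third hK hX P.pB)).mp k5
  rw [hb_add_right hK, hb_smul_right, w0, w1, hBX, zero_add, mul_one] at this
  exact h ((pow_eq_zero_iff two_ne_zero).mp ((pow_eq_zero_iff two_ne_zero).mp this))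

omit hmem hext hOut hcent in
/-- an involutory conjugation without fixed points in an odd order normal group inverts it -/
theorem inverts {H : Type*} [Group H] {T : Subgroup H} [Finite ↥T] {t : H} (hn : ∀ x ∈ T, t * x * t⁻¹ ∈ T)
    (ht : t * t = 1) (hfree : ∀ x ∈ T, t * x = x * t → x = 1) {x : H} (hx : x ∈ T) :
    t * x * t⁻¹ = x⁻¹ := by
  let φ : ↥T →* ↥T :=
    { toFun := fun y => ⟨t * y * t⁻¹, hn y y.2⟩
      map_one' := Subtype.ext (by simp)
      map_mul' := fun y z => Subtype.ext (by simp [mul_assoc]) }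
  have hinv : Function.Involutive φ := fun y => Subtype.ext (by
    show t * (t * y * t⁻¹) * t⁻¹ = _
    rw [show t * (t * (y : H) * t⁻¹) * t⁻¹ = t * t * y * (t * t)⁻¹ by group, ht, one_mul, inv_one,
      mul_one])
  have hfp : MonoidHom.FixedPointFree φ := fun y hy => Subtype.ext
    (hfree y y.2 (mul_inv_eq_iff_eq_mul.mp (congrArg Subtype.val hy)))
  exact congrArg Subtype.val (congrFun (hfp.coe_eq_inv_of_involutive hinv) ⟨x, hx⟩)

/-- no odd order subgroup is normalised -/
theorem odd_eq_bot (T : Subgroup (MulAut G)) (hodd : Odd (Nat.card T))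
    (hN : Qs P hmem ≤ Subgroup.normalizer (T : Set (MulAut G))) : T = ⊥ := by
  have hnorm : ∀ q ∈ Qs P hmem, ∀ x ∈ T, q * x * q⁻¹ ∈ T := fun q hq x hx =>
    (Subgroup.mem_normalizer_iff.mp (hN hq) x).mp hx
  haveI : Finite ↥T := Nat.finite_of_card_ne_zero fun e => by simp [e] at hodd
  have hord : ∀ x ∈ T, ∀ n : ℕ, x ^ n = 1 → (∀ d, d ∣ n → Odd d → d = 1) → x = 1 := by
    intro x hx n h1 h2
    refine orderOf_eq_one_iff.mp (h2 _ (orderOf_dvd_of_pow_eq_one h1) ?_)
    refine hodd.of_dvd_nat ?_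
    rw [show orderOf x = orderOf (⟨x, hx⟩ : ↥T) from Subgroup.orderOf_coe (⟨x, hx⟩ : ↥T)]
    exact orderOf_dvd_natCard _
  have hinter : ∀ x ∈ T, x ∈ Qs P hmem → x = 1 := fun x hx hq => by
    obtain ⟨n, hn⟩ : ∃ n, n = Nat.card ↥(Qs P hmem) := ⟨_, rfl⟩
    refine hord x hx n ?_ fun d hd hdo => ?_
    · have h1 : (⟨x, hq⟩ : ↥(Qs P hmem)) ^ n = 1 := by rw [hn]; exact pow_card_eq_one'
      have h2 := congrArg (Subgroup.subtype (Qs P hmem)) h1
      rw [map_pow, map_one] at h2
      exact h2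
    · rw [hn, card_Qs P hmem hext hcent hOut] at hd
      obtain ⟨i, -, rfl⟩ := (Nat.dvd_prime_pow Nat.prime_two).mp hd
      rcases Nat.eq_zero_or_pos i with rfl | hi
      · rfl
      · exact absurd hdo (Nat.not_odd_iff_even.mpr ((Nat.even_pow.mpr ⟨even_two, hi.ne'⟩)))
  set ζ := MulAut.conj (a * b) with hζ
  have hζQ : ζ ∈ Qs P hmem := conj_ab_mem (P := P) hmem hext hOut
  have hQn : ∀ x ∈ Cj P, ∀ q ∈ Qs P hmem, x * q * x⁻¹ ∈ Qs P hmem := fun x hx q hq => by
    have hn : ((Qs P hmem).subgroupOf (Cj P)).Normal := Qs_subgroupOf P hmem ▸ MonoidHom.normal_ker _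
    have := hn.conj_mem ⟨q, Qs_le P hmem hq⟩ (Subgroup.mem_subgroupOf.mpr hq) ⟨x, hx⟩
    exact Subgroup.mem_subgroupOf.mp this
  -- the centraliser of `ζ` in `T` is trivial
  have hfix : ∀ x ∈ T, ζ * x = x * ζ → x = 1 := by
    intro x hx hc
    have hxC : x ∈ Cj P := Subgroup.mem_centralizer_singleton_iff.mpr hc.symm
    refine hinter x hx (centralizer_le hmem hext hOut hcent (Subgroup.mem_centralizer_iff.mpr
      fun q hq => ?_))
    have h1 : q * x * q⁻¹ * x⁻¹ ∈ Qs P hmem := by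
      rw [show q * x * q⁻¹ * x⁻¹ = q * (x * q⁻¹ * x⁻¹) by group]
      exact mul_mem hq (hQn x hxC _ (inv_mem hq))
    have h2 : q * x * q⁻¹ * x⁻¹ ∈ T := mul_mem (hnorm q hq x hx) (inv_mem hx)
    exact mul_inv_eq_iff_eq_mul.mp (mul_inv_eq_one.mp (hinter _ h2 h1))
  have hζ2 : ζ * ζ = 1 := by rw [hζ, ← map_mul, ab_sq P, map_one]
  have hinvT : ∀ x ∈ T, ζ * x * ζ⁻¹ = x⁻¹ := fun x hx =>
    inverts (hnorm ζ hζQ) hζ2 hfix hx
  have habel : ∀ x ∈ T, ∀ y ∈ T, x * y = y * x := fun x hx y hy => by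
    have := hinvT _ (mul_mem hx hy)
    rw [show ζ * (x * y) * ζ⁻¹ = (ζ * x * ζ⁻¹) * (ζ * y * ζ⁻¹) by group, hinvT x hx, hinvT y hy] at this
    have h' := congrArg Inv.inv this
    rw [mul_inv_rev, inv_inv, inv_inv, inv_inv] at h'
    exact h'.symm
  set α := MulAut.conj a with hα
  set β := MulAut.conj b with hβ
  have hαQ : α ∈ Qs P hmem := (conj_mem_Qs P hmem hext).mpr P.pair_mem_E.1
  have hβQ : β ∈ Qs P hmem := (conj_mem_Qs P hmem hext).mpr P.pair_mem_E.2
  have htt := P.data.core.tt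
  -- the centraliser of `a` in `T` is trivial
  have hfixa : ∀ x ∈ T, α * x = x * α → x = 1 := by
    intro x hx hc
    obtain ⟨g0, hg0⟩ := sq_inner P hOut x
    -- `x` is a power of its square, so inner
    obtain ⟨g, hxg⟩ : x ∈ (MulAut.conj : G →* MulAut G).range := by
      obtain ⟨m, hm⟩ : Odd (orderOf x) := hodd.of_dvd_nat (by
        rw [show orderOf x = orderOf (⟨x, hx⟩ : ↥T) from Subgroup.orderOf_coe (⟨x, hx⟩ : ↥T)]
        exact orderOf_dvd_natCard _)
      have : x = ((x * x) ^ m)⁻¹ := by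
        refine eq_inv_of_mul_eq_one_right ?_
        rw [← pow_two, ← pow_mul, ← pow_succ, ← hm, pow_orderOf_eq_one]
      rw [this]
      exact inv_mem (pow_mem (show x * x ∈ (MulAut.conj : G →* MulAut G).range from ⟨g0, hg0.symm⟩) m)
    have ga : Commute g a := conj_inj P.data (by rw [map_mul, map_mul, hxg]; exact hc.symm)
    have hb1 : β * x * β⁻¹ = x⁻¹ := by
      have e : ζ = α * β := by rw [hζ, map_mul]
      have hcx : α * x * α⁻¹ = x := by rw [hc, mul_inv_cancel_right]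
      have := hinvT x hx
      rw [e, mul_inv_rev, show α * β * x * (β⁻¹ * α⁻¹) = α * (β * x * β⁻¹) * α⁻¹ by group] at this
      have h2 := congrArg (fun y => α⁻¹ * y * α) this
      simp only [show α⁻¹ * (α * (β * x * β⁻¹) * α⁻¹) * α = β * x * β⁻¹ by group] at h2
      rw [h2, show α⁻¹ * x⁻¹ * α = (α⁻¹ * x * α)⁻¹ by group]
      congr 1
      rw [mul_assoc, ← hc, inv_mul_cancel_left]
    have hbg : b * g * b⁻¹ = g⁻¹ := conj_inj P.data (by
      rw [map_mul, map_mul, map_inv, map_inv, hxg]; exact hb1)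
    -- `g ^ 2` is the product of two members
    have hgb : g * g = g * b * g⁻¹ * b := by
      have : g⁻¹ * b = b * g := by
        rw [← hbg, inv_mul_cancel_right]
      calc g * g = g * (b * b) * g := by rw [htt.sq b P.hbm.1, mul_one]
        _ = g * b * (b * g) := by group
        _ = g * b * (g⁻¹ * b) := by rw [this]
        _ = _ := by group
    have hbnb : g * b * g⁻¹ ∈ nb D a := by
      have := htt.nb_conj g P.hbm
      rwa [ga.eq, mul_inv_cancel_right] at this
    obtain ⟨X, hX, hXe⟩ := P.xs.sp.surj _ hbnb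
    by_cases hη : hb X P.B = 0
    · -- commuting: the square has order two
      have cXb : Commute (g * b * g⁻¹) b := by
        have := (P.xs.sp.comm hX P.pB).mpr hη
        rwa [hXe, P.hB] at this
      have h4 : (x * x) ^ 2 = 1 := by
        rw [← hxg, ← map_mul, ← map_pow, pow_two, hgb,
          htt.sq_of_commute hbnb.1 P.hbm.1 cXb, map_one]
      refine hord x hx 4 (by rw [show (4 : ℕ) = 2 * 2 from rfl, pow_mul, pow_two x]; exact h4)
        fun d hd hdo => ?_
      have hd4 : d ≤ 4 := Nat.le_of_dvd (by norm_num) hd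
      obtain ⟨m, rfl⟩ := hdo
      have : m = 0 ∨ m = 1 := by omega
      rcases this with rfl | rfl
      · rfl
      · norm_num at hd
    · exfalso
      refine no_common P hX hη ga hXe.symm fun e he => ?_
      have hePb : P.pt X * b = g * g := by
        rw [hgb]; show P.xs.sp.pt X * b = _; rw [hXe]
      rw [hePb]
      refine conj_inj P.data ?_
      simp only [map_mul, map_inv, hxg]
      exact habel _ (mul_mem hx hx) _ (hnorm _ ((conj_mem_Qs P hmem hext).mpr he) _ (mul_mem hx hx))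
  have hα2 : α * α = 1 := by rw [hα, ← map_mul, htt.sq a P.ha, map_one]
  obtain ⟨k, hk, ka, -⟩ := exists_swapper (P := P) hmem hext hOut hcent
  have hfixb : ∀ x ∈ T, β * x = x * β → x = 1 := by
    intro x hx hc
    have hkαk : k⁻¹ * β * k = α := by
      rw [hβ, ← ka, ← aut_conj, hα]; group
    have := hfixa _ (by simpa using hnorm _ (inv_mem hk) x hx) (by
      rw [← hkαk,
        show k⁻¹ * β * k * (k⁻¹ * x * k) = k⁻¹ * (β * x) * k by group, hc]
      group)
    calc x = k * (k⁻¹ * x * k) * k⁻¹ := by group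
      _ = 1 := by rw [this]; group
  have hβ2 : β * β = 1 := by rw [hβ, ← map_mul, htt.sq b P.hbm.1, map_one]
  refine (Subgroup.eq_bot_iff_forall T).mpr fun x hx => hfix x hx ?_
  have ea : α * x * α⁻¹ = x⁻¹ := inverts (hnorm α hαQ) hα2 hfixa hx
  have eb : β * x * β⁻¹ = x⁻¹ := inverts (hnorm β hβQ) hβ2 hfixb hx
  have : ζ * x * ζ⁻¹ = x := by
    rw [hζ, map_mul, ← hα, ← hβ, mul_inv_rev,
      show α * β * x * (β⁻¹ * α⁻¹) = α * (β * x * β⁻¹) * α⁻¹ by group, eb,
      show α * x⁻¹ * α⁻¹ = (α * x * α⁻¹)⁻¹ by group, ea, inv_inv]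
  exact mul_inv_eq_iff_eq_mul.mp this

/-- the kernel is large -/
theorem large : Cfsg.IsLargeExtraspecial (Qs P hmem) := by
  refine ⟨(extraspecial (P := P) hmem hext hOut hcent).1, le_antisymm (fun φ hφ => ?_)
    H92.center_map_le_centralizer, ?_, odd_eq_bot hmem hext hOut hcent⟩
  · have hq := centralizer_le hmem hext hOut hcent hφ
    exact ⟨⟨φ, hq⟩, Subgroup.mem_center_iff.mpr fun y =>
      Subtype.ext (Subgroup.mem_centralizer_iff.mp hφ y y.2), rfl⟩
  · rw [center_eq hmem hext hOut hcent]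
    intro φ hφ
    have hC : φ ∈ Cj P := Subgroup.mem_centralizer_singleton_iff.mpr
      (Subgroup.mem_centralizer_iff.mp hφ _ (Subgroup.mem_zpowers _)).symm
    have hn : ((Qs P hmem).subgroupOf (Cj P)).Normal := Qs_subgroupOf P hmem ▸ MonoidHom.normal_ker _
    rw [Subgroup.mem_normalizer_iff]
    intro q
    constructor
    · intro hq
      exact Subgroup.mem_subgroupOf.mp
        (hn.conj_mem ⟨q, Qs_le P hmem hq⟩ (Subgroup.mem_subgroupOf.mpr hq) ⟨φ, hC⟩)
    · intro hq
      have := Subgroup.mem_subgroupOf.mp (hn.conj_mem ⟨_, Qs_le P hmem hq⟩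
        (Subgroup.mem_subgroupOf.mpr hq) ⟨φ⁻¹, (Cj P).inv_mem hC⟩)
      simpa [mul_assoc] using this

end Cfsg.Agent.H18.Fi22Pair
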