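import Cfsg.Agent.H18.Fi22Pair.Large
import Cfsg.Agent.H93.Unique

/-!
Type M(22) with outer automorphism group of order two: the centraliser of the inner automorphism of
the product of two commuting members.
-/

set_option autoImplicit false

namespace Cfsg.Agent.H18.Fi22Pair

open Cfsg.Agent.H93

variable {G : Type*} [Group G] [Finite G] {D : Set G}

omit [Finite G] in
/-- the image of a generating class of 3-transpositions is one -/
theorem class_image (hD : Cfsg.IsThreeTranspositionClass D) (φ : MulAut G) :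
    Cfsg.IsThreeTranspositionClass (φ '' D) := by
  obtain ⟨d, hd, hdD⟩ := hD.2.1
  refine ⟨⟨?_, ?_⟩, ⟨φ d, ⟨d, hd, rfl⟩, ?_⟩, ?_⟩
  · rintro _ ⟨x, hx, rfl⟩
    rw [MulEquiv.orderOf_eq]; exact hD.1.1 x hx
  · rintro _ ⟨x, hx, rfl⟩ _ ⟨y, hy, rfl⟩
    rcases hD.1.2 x hx y hy with h | h
    · exact Or.inl (by rw [← map_mul, ← map_pow, h, map_one])
    · exact Or.inr (by rw [← map_mul, ← map_pow, h, map_one])
  · ext z
    constructor
    · rintro ⟨x, hx, rfl⟩
      rw [hdD] at hx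
      exact φ.toMonoidHom.map_isConj hx
    · intro hz
      obtain ⟨g, rfl⟩ := isConj_iff.mp hz
      refine ⟨φ.symm g * d * (φ.symm g)⁻¹, ?_, by simp⟩
      rw [hdD]
      exact isConj_iff.mpr ⟨φ.symm g, rfl⟩
  · have : (Subgroup.closure D).map φ.toMonoidHom = ⊤ := by
      rw [hD.2.2, Subgroup.map_top_of_surjective _ φ.surjective]
    rw [MonoidHom.map_closure] at this
    exact this

/-- automorphisms preserve the class -/
theorem aut_mem (hclass : Cfsg.IsThreeTranspositionClass D) (h22 : Cfsg.IsOfTypeM22 G D)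
    (φ : MulAut G) {x : G} (hx : x ∈ D) : φ x ∈ D := by
  have htt := TT.of_class hclass
  have hne : ∀ a ∈ D, a ≠ 1 := fun a ha e => by simpa [e] using hclass.1.1 a ha
  obtain ⟨hcore, -, -⟩ := good22 htt hclass.2.2 hne h22
  have hrig := (rigid22 htt hclass.2.2 hne h22).1
  exact (eq_of_rigid hcore hclass.2.2 hrig h22.1 (class_image hclass φ)) ▸ ⟨x, hx, rfl⟩

/-- the centraliser in the automorphism group -/
theorem cent_pair (hclass : Cfsg.IsThreeTranspositionClass D) (h22 : Cfsg.IsOfTypeM22 G D)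
    (hOut : Nat.card (Cfsg.Out G) = 2) (d₁ d₂ : G) (h₁ : d₁ ∈ D) (h₂ : d₂ ∈ D) (hne : d₁ ≠ d₂)
    (hc : Commute d₁ d₂) (j : MulAut G) (hj : j = MulAut.conj (d₁ * d₂)) (Q : Subgroup (MulAut G))
    (hQ : Q = (Cfsg.generalizedFittingSubgroup ↥(Subgroup.centralizer ({j} : Set (MulAut G)))).map
      (Subgroup.centralizer ({j} : Set (MulAut G))).subtype) :
    Cfsg.IsLargeExtraspecial Q ∧ Nat.card Q = 2 ^ 11 ∧
      Q ≤ Subgroup.centralizer ({j} : Set (MulAut G)) ∧
      ∃ (_ : (Q.subgroupOf (Subgroup.centralizer ({j} : Set (MulAut G)))).Normal) (F : Type)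
        (_ : Field F) (_ : Fintype F), Fintype.card F = 4 ∧
        Nonempty (↥(Subgroup.centralizer ({j} : Set (MulAut G))) ⧸
          Q.subgroupOf (Subgroup.centralizer ({j} : Set (MulAut G))) ≃* MulAut (Cfsg.PSU 4 F 2)) := by
  obtain ⟨F, iF, iFF, h, F4, iK, iKF, hK4, hcent, hext⟩ := cent22 hclass h22
  obtain ⟨π, he⟩ := hext d₁ h₁
  obtain ⟨P⟩ := exists_pairData (hK := hK4) h h₁ ⟨h₂, hne.symm, hc⟩ he
  subst hj
  have hmem : ∀ (φ : MulAut G), ∀ x ∈ D, φ x ∈ D := fun φ x hx => aut_mem hclass h22 φ hx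
  have hQ' : Q = Qs P hmem := by
    rw [hQ, genFitting_Cj (P := P) hmem hext hOut hcent,
      Subgroup.map_subgroupOf_eq_of_le (Qs_le P hmem)]
  subst hQ'
  refine ⟨large (P := P) hmem hext hOut hcent, card_Qs P hmem hext hcent hOut, Qs_le P hmem,
    Qs_subgroupOf P hmem ▸ MonoidHom.normal_ker _, F4, iK, iKF, hK4, ?_⟩
  haveI : ((Qs P hmem).subgroupOf (Cj P)).Normal := Qs_subgroupOf P hmem ▸ MonoidHom.normal_ker _
  have e : ↥(Cfsg.SU 4 F4 2) ≃* Cfsg.PSU 4 F4 2 :=
    ((QuotientGroup.quotientMulEquivOfEq (P.center_su4)).trans QuotientGroup.quotientBot).symm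
  exact ⟨((QuotientGroup.quotientMulEquivOfEq (Qs_subgroupOf P hmem)).trans
    (QuotientGroup.quotientKerEquivOfSurjective (act4 P hmem)
      (act4_surjective P hmem hext hcent))).trans (MulAut.congr e)⟩

end Cfsg.Agent.H18.Fi22Pair
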