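import Cfsg.Agent.H93.PairQuot

/-!
Type M(22), commuting members `a, b`: an automorphism preserving every class of common neighbours
whose square is induced by the kernel moves each class by a translation; such translations are
realised by products of pairs.
-/

set_option autoImplicit false

namespace Cfsg.Agent.H18.Fi22Pair

open Cfsg.Agent.H93

variable {K : Type*} [Field K] [Fintype K] {hK : Fintype.card K = 4}
  {G : Type*} [Group G] {D : Set G} {F : Type*} [Field F] [Fintype F] {a b : G}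
  {π : ↥(Subgroup.centralizer ({a} : Set G)) →* Cfsg.PSU 6 K 2}
  (P : PairData hK D (F := F) a b π)

/-- the points orthogonal to `B` other than `B` -/
structure Off (X : Vec K) : Prop where
  pt : IsPt X
  orth : hb X P.B = 0
  ne : ¬ SamePt P.B X

theorem off_shift {X : Vec K} (h : Off P X) (t : K) : Off P (X + t • P.B) := by
  obtain ⟨h1, h2, h3⟩ := P.shift h.pt h.orth h.ne t
  exact ⟨h1, h2, h3⟩

theorem off_smul {X : Vec K} (h : Off P X) {k : K} (hk : k ≠ 0) : Off P (k • X) := by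
  refine ⟨(P.xs.sp.smul_pt hk h.pt).1, by rw [hb_smul_left, h.orth, mul_zero], fun ⟨r, hr⟩ => h.ne ?_⟩
  exact ⟨k⁻¹ * r, by rw [mul_smul, ← hr, inv_smul_smul₀ hk]⟩

theorem off_of_hb {X Y : Vec K} (hX : Off P X) (hY : IsPt Y) (hYB : hb Y P.B = 0) (h : hb Y X ≠ 0) :
    Off P Y :=
  ⟨hY, hYB, fun ⟨r, hr⟩ => h (by
    rw [hr, hb_smul_left, (hb_eq_zero_comm hK).mp hX.orth, mul_zero])⟩

theorem off_third {X Y : Vec K} (hX : Off P X) (hY : Off P Y) (h : hb Y X ≠ 0) :
    Off P (Y + hb Y X • X) := by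
  refine off_of_hb P hX (isPt_third hK hX.pt hY.pt) ?_ ?_
  · rw [hb_add_left, hb_smul_left, hY.orth, hX.orth, mul_zero, add_zero]
  · rwa [hb_add_left, hb_smul_left, hX.pt.2, mul_zero, add_zero]

theorem pt_smul {X : Vec K} (h : IsPt X) {k : K} (hk : k ≠ 0) : P.pt (k • X) = P.pt X :=
  (P.xs.sp.smul_pt hk h).2

theorem off_common {X : Vec K} (h : Off P X) : P.pt X ∈ common D a b :=
  P.mem_common_iff.mpr ⟨X, h.pt, h.orth, h.ne, rfl⟩

theorem shift_inj {X : Vec K} (h : Off P X) {r r' : K}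
    (e : P.pt (X + r • P.B) = P.pt (X + r' • P.B)) : r = r' := by
  obtain ⟨k, hk⟩ := (P.xs.sp.same (off_shift P h r).pt (off_shift P h r').pt).mp e
  rw [smul_add, smul_smul, add_comm X, add_comm (k • X)] at hk
  obtain ⟨e1, e2⟩ := (indep_pair P.pB.1 h.ne).eq_of_pair
    (show r' • P.B + (1 : K) • X = (k * r) • P.B + k • X by rw [one_smul]; exact hk)
  rw [← e2, one_mul] at e1
  exact e1.symm

/-- `φ` moves the point `X` along its class by `τ X` -/
def Shift (φ : MulAut G) (τ : Vec K → K) : Prop :=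
  ∀ X, Off P X → φ (P.pt X) = P.pt (X + τ X • P.B)

/-- `τ` depends only on the class -/
def Inv (τ : Vec K → K) : Prop := ∀ X, Off P X → ∀ r : K, τ (X + r • P.B) = τ X

variable {P}

theorem exists_shift {φ : MulAut G} (hcl : ∀ z ∈ common D a b, φ z ∈ Cl D a b z) :
    ∃ τ, Shift P φ τ := by
  classical
  have h : ∀ X, ∃ t : K, Off P X → φ (P.pt X) = P.pt (X + t • P.B) := fun X => by
    by_cases hX : Off P X
    · obtain ⟨t, ht⟩ := (P.cl_iff hX.pt hX.orth hX.ne).mp (hcl _ (off_common P hX))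
      exact ⟨t, fun _ => ht.symm⟩
    · exact ⟨0, fun q => absurd q hX⟩
  choose τ hτ using h
  exact ⟨τ, hτ⟩

theorem Shift.unique {φ : MulAut G} {τ : Vec K → K} (hτ : Shift P φ τ) {X : Vec K} (hX : Off P X)
    {t : K} (h : φ (P.pt X) = P.pt (X + t • P.B)) : τ X = t :=
  shift_inj P hX ((hτ X hX).symm.trans h)

theorem Shift.smul {φ : MulAut G} {τ : Vec K → K} (hτ : Shift P φ τ) {X : Vec K} (hX : Off P X)
    {k : K} (hk : k ≠ 0) : τ (k • X) = k * τ X := by
  refine hτ.unique (off_smul P hX hk) ?_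
  rw [pt_smul P hX.pt hk, mul_smul, ← smul_add, pt_smul P (off_shift P hX _).pt hk]
  exact hτ X hX

theorem Shift.third {φ : MulAut G} {τ : Vec K → K} (hτ : Shift P φ τ) {X Y : Vec K} (hX : Off P X)
    (hY : Off P Y) (h : hb Y X ≠ 0) :
    τ (Y + hb Y X • X) = τ Y + hb Y X * τ X := by
  refine hτ.unique (off_third P hX hY h) ?_
  have e : P.pt (Y + hb Y X • X) = P.pt X * P.pt Y * P.pt X := (P.xs.sp.third hX.pt hY.pt).symm
  rw [e, map_mul, map_mul, hτ X hX, hτ Y hY]
  refine (P.xs.sp.third (off_shift P hX _).pt (off_shift P hY _).pt).trans ?_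
  show P.xs.sp.pt _ = P.xs.sp.pt _
  have hv : hb (Y + τ Y • P.B) (X + τ X • P.B) = hb Y X := by
    rw [hb_add_left, hb_smul_left, hb_add_right hK, hb_smul_right, hb_add_right hK, hb_smul_right,
      hY.orth, P.pB.2, (hb_eq_zero_comm hK).mp hX.orth]
    ring
  rw [hv, smul_add, smul_smul, add_smul]
  congr 1
  abel

theorem Shift.mul {φ φ' : MulAut G} {τ τ' : Vec K → K} (h : Shift P φ τ) (hi : Inv P τ)
    (h' : Shift P φ' τ') : Shift P (φ * φ') (τ + τ') := fun X hX => by
  rw [MulAut.mul_apply, h' X hX, h _ (off_shift P hX _), hi X hX, Pi.add_apply, add_assoc,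
    ← add_smul, add_comm (τ' X)]

theorem Inv.add {τ τ' : Vec K → K} (h : Inv P τ) (h' : Inv P τ') : Inv P (τ + τ') :=
  fun X hX r => by rw [Pi.add_apply, Pi.add_apply, h X hX, h' X hX]

/-- kernel elements move classes by translations -/
theorem shift_of_mem_E {e : G} (he : e ∈ P.E) :
    ∃ τ, Shift P (MulAut.conj e) τ ∧ Inv P τ := by
  classical
  obtain ⟨k, hk, rfl⟩ := he
  have hex : ∀ X, ∃ t : K, Off P X → act (P.liftB k).1 X = X + t • P.B := fun X => by
    by_cases hX : Off P X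
    · obtain ⟨t, ht⟩ := (P.basis.mem_ker hK).mp hk X hX.orth
      exact ⟨t, fun _ => ht⟩
    · exact ⟨0, fun q => absurd q hX⟩
  choose τ hτ using hex
  refine ⟨τ, fun X hX => ?_, fun X hX r => ?_⟩
  · rw [MulAut.conj_apply, Subgroup.coe_subtype, P.liftB_act k hX.pt, hτ X hX]
  · have h := hτ _ (off_shift P hX r)
    rw [act_add, act_smul, show act (P.liftB k).1 P.B = P.B from (P.liftB k).2, hτ X hX] at h
    have h' : τ X • P.B = τ (X + r • P.B) • P.B :=
      add_left_cancel (a := X + r • P.B) (by rw [← h]; abel)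
    exact (smul_left_injective K P.pB.1 h').symm

/-- the translation property -/
theorem Shift.inv {φ : MulAut G} {τ : Vec K → K} (hτ : Shift P φ τ) {f : G} (hf : f ∈ P.E)
    (hsq : φ * φ = MulAut.conj f) : Inv P τ := by
  obtain ⟨c, hc, hci⟩ := shift_of_mem_E hf
  let g : Vec K → K → K := fun X r => τ (X + r • P.B) + τ X
  have e2 := two_zero hK
  -- transport along a hyperbolic pair
  have move : ∀ X Y, Off P X → Off P Y → hb Y X ≠ 0 → ∀ r,
      hb Y X * g X r = g Y (hb Y X * r) := by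
    intro X Y hX hY h r
    have hXr := off_shift P hX r
    have hYr := off_shift P hY (hb Y X * r)
    have v1 : hb Y (X + r • P.B) = hb Y X := by
      rw [hb_add_right hK, hb_smul_right, hY.orth, mul_zero, add_zero]
    have v2 : hb (Y + (hb Y X * r) • P.B) X = hb Y X := by
      rw [hb_add_left, hb_smul_left, (hb_eq_zero_comm hK).mp hX.orth, mul_zero, add_zero]
    have h1 := hτ.third hXr hY (by rwa [v1])
    have h2 := hτ.third hX hYr (by rwa [v2])
    rw [v1, show Y + hb Y X • (X + r • P.B) = Y + (hb Y X * r) • P.B + hb Y X • X by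
      rw [smul_add, smul_smul]; abel] at h1
    rw [v2, h1] at h2
    simp only [g]
    linear_combination h2 + (hb Y X * τ X - τ Y) * e2
  -- linearity on one class
  have lin : ∀ X, Off P X → ∀ r, g X r = r * g X 1 := by
    intro X hX
    obtain ⟨o, ho0, ho1, ho⟩ := exists_omega hK
    have hli : LinearIndependent K ![P.B, X] := indep_pair P.pB.1 hX.ne
    obtain ⟨Y, hYi, hYB, hYX⟩ := iso_two hK P.pB.1 hX.ne 0 1
    have hY : Off P Y := off_of_hb P hX (pt_of_hb_eq_one hYi hYX) hYB (by rw [hYX]; exact one_ne_zero)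
    have hns : Y ∉ Submodule.span K (Set.range ![P.B, X]) := by
      intro q
      obtain ⟨d, hd⟩ := (Submodule.mem_span_range_iff_exists_fun K).mp q
      simp only [Fin.sum_univ_two, Matrix.cons_val_zero, Matrix.cons_val_one] at hd
      rw [← hd, hb_add_left, hb_smul_left, hb_smul_left, (hb_eq_zero_comm hK).mp hX.orth, hX.pt.2,
        mul_zero, mul_zero, add_zero] at hYX
      exact zero_ne_one hYX
    obtain ⟨Z, hZi, hZl⟩ := iso_solve hK
      (linearIndependent_finSnoc.mpr ⟨hli, hns⟩ : LinearIndependent K (Fin.snoc ![P.B, X] Y))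
      (Fin.snoc ![0, 1] o) (Or.inr ⟨rfl, Fin.last 2, (1 : Fin 2).castSucc, by
        rw [Fin.snoc_last, Fin.snoc_castSucc]; simp [hYX]⟩)
    have z0 := hZl (0 : Fin 2).castSucc
    have z1 := hZl (1 : Fin 2).castSucc
    have z2 := hZl (Fin.last 2)
    rw [Fin.snoc_castSucc, Fin.snoc_castSucc] at z0 z1
    rw [Fin.snoc_last, Fin.snoc_last] at z2
    simp only [Matrix.cons_val_zero, Matrix.cons_val_one] at z0 z1
    have hZ : Off P Z := off_of_hb P hX (pt_of_hb_eq_one hZi z1) z0 (by rw [z1]; exact one_ne_zero)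
    have eY : ∀ r, g X r = g Y r := fun r => by
      have := move X Y hX hY (by rw [hYX]; exact one_ne_zero) r
      rwa [hYX, one_mul, one_mul] at this
    have eZ : ∀ r, g X r = g Z r := fun r => by
      have := move X Z hX hZ (by rw [z1]; exact one_ne_zero) r
      rwa [z1, one_mul, one_mul] at this
    have eo : ∀ r, o * g X r = g X (o * r) := fun r => by
      have := move Y Z hY hZ (by rw [z2]; exact ho0) r
      rwa [z2, ← eY, ← eZ] at this
    intro r
    by_cases r0 : r = 0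
    · simp only [g, r0, zero_smul, add_zero, zero_mul]
      exact add_self_zero hK _
    have : (r - 1) * (r - o) * (r - o ^ 2) = 0 := by
      linear_combination H93.pow_three hK r0 + (-r ^ 2 + o * r) * ho + ((1 : K) - o) * ho
    rcases mul_eq_zero.mp this with q | q
    · rcases mul_eq_zero.mp q with q' | q'
      · rw [sub_eq_zero.mp q', one_mul]
      · rw [sub_eq_zero.mp q', eo, mul_one]
    · rw [sub_eq_zero.mp q, pow_two, mul_assoc, eo, eo, mul_one]
  intro X hX r
  set γ := g X 1 with hγ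
  have form : ∀ r, τ (X + r • P.B) = τ X + γ * r := fun r => by
    have := lin X hX r
    simp only [g] at this
    linear_combination this - τ X * e2
  have twice : ∀ r, γ * τ X + γ ^ 2 * r = c X := by
    intro r
    have hXr := off_shift P hX r
    have h1 : φ (φ (P.pt (X + r • P.B))) = MulAut.conj f (P.pt (X + r • P.B)) := by
      rw [← MulAut.mul_apply, hsq]
    rw [hτ _ hXr, hτ _ (off_shift P hXr _), hc _ hXr, hci X hX] at h1
    rw [add_assoc (X + r • P.B), ← add_smul] at h1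
    have h2 := shift_inj P hXr h1
    rw [show X + r • P.B + τ (X + r • P.B) • P.B = X + (r + τ (X + r • P.B)) • P.B by
      rw [add_smul, add_assoc], form, form] at h2
    linear_combination h2 - (τ X + γ * r) * e2
  have hγ0 : γ = 0 := by
    have h0 := twice 0
    have h1 := twice 1
    have : γ ^ 2 = 0 := by linear_combination h1 - h0
    exact (pow_eq_zero_iff two_ne_zero).mp this
  rw [form, hγ0, zero_mul, add_zero]

/-- the conjugation by a pair -/
theorem shift_pair {Y : Vec K} (hY : Off P Y) (s : K) :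
    Shift P (MulAut.conj (P.pt Y * P.pt (Y + s • P.B))) (fun X => hb X Y * s) ∧
      Inv P (fun X => hb X Y * s) := by
  refine ⟨fun X hX => ?_, fun X _ r => ?_⟩
  · rw [MulAut.conj_apply]
    exact P.pair_act hY.pt hY.orth hY.ne hX.pt hX.orth s
  · show hb (X + r • P.B) Y * s = hb X Y * s
    rw [hb_add_left, hb_smul_left, (hb_eq_zero_comm hK).mp hY.orth, mul_zero, add_zero]

/-- two points orthogonal to each other with vanishing shift span a line of vanishing shift -/
theorem Shift.line {φ : MulAut G} {τ : Vec K → K} (hτ : Shift P φ τ) (ha : φ a = a) {X Y : Vec K}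
    (hX : Off P X) (hY : Off P Y) (hXY : hb X Y = 0)
    (hli : LinearIndependent K (Fin.snoc ![P.B, X] Y)) (tX : τ X = 0) (tY : τ Y = 0) (k : K) :
    τ (X + k • Y) = 0 := by
  obtain ⟨o, ho0, ho1, ho⟩ := exists_omega hK
  have coef : ∀ a₁ b₁ c₁ : K, a₁ • P.B + b₁ • X + c₁ • Y = 0 → a₁ = 0 ∧ b₁ = 0 ∧ c₁ = 0 := by
    intro a₁ b₁ c₁ e0
    have := Fintype.linearIndependent_iff.mp hli (Fin.snoc ![a₁, b₁] c₁) (by
      rw [Fin.sum_univ_castSucc, Fin.sum_univ_two]
      simp only [Fin.snoc_castSucc, Fin.snoc_last, Matrix.cons_val_zero, Matrix.cons_val_one]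
      exact e0)
    have e1 := this (0 : Fin 2).castSucc
    have e2 := this (1 : Fin 2).castSucc
    have e3 := this (Fin.last 2)
    rw [Fin.snoc_castSucc] at e1 e2
    rw [Fin.snoc_last] at e3
    simp only [Matrix.cons_val_zero, Matrix.cons_val_one] at e1 e2
    exact ⟨e1, e2, e3⟩
  have hs : ¬ SamePt X Y := fun ⟨r, hr⟩ => one_ne_zero (coef 0 r 1 (by
    rw [zero_smul, zero_add, one_smul, ← hr]; exact vec_add_self hK Y)).2.2
  have hl : ∀ r : K, Off P (X + r • Y) := fun r => by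
    refine ⟨isPt_line hK hX.pt hY.pt hXY hs r, ?_, fun ⟨s, hs'⟩ => ?_⟩
    · rw [hb_add_left, hb_smul_left, hX.orth, hY.orth, mul_zero, add_zero]
    · exact one_ne_zero (coef s 1 r (by
        rw [one_smul, add_assoc, ← hs']; exact vec_add_self hK _)).2.1
  have h1 : Off P (X + Y) := by simpa using hl 1
  set t1 := τ (X + Y) with ht1
  set tw := τ (X + o • Y) with htw
  set tv2 := τ (X + o ^ 2 • Y) with htv2
  let Z1 := X + Y + t1 • P.B
  let Z2 := X + o • Y + tw • P.B
  let Z3 := X + o ^ 2 • Y + tv2 • P.B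
  have p1 : IsPt Z1 := (off_shift P h1 _).pt
  have p2 : IsPt Z2 := (off_shift P (hl o) _).pt
  have p3 : IsPt Z3 := (off_shift P (hl (o ^ 2)) _).pt
  have sm := fun {v} (hv : IsPt v) => P.xs.sp.mem hv
  -- the product of the five members is fixed
  set q : ↥(Subgroup.centralizer ({a} : Set G)) :=
    ⟨P.pt X, mem_cent (sm hX.pt).2.2⟩ * ⟨P.pt Y, mem_cent (sm hY.pt).2.2⟩ *
      ⟨P.pt (X + Y), mem_cent (sm h1.pt).2.2⟩ * ⟨P.pt (X + o • Y), mem_cent (sm (hl o).pt).2.2⟩ *
      ⟨P.pt (X + o ^ 2 • Y), mem_cent (sm (hl (o ^ 2)).pt).2.2⟩ with hqdef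
  have hq : π q = 1 := by
    rw [hqdef, map_mul, map_mul, map_mul, map_mul]
    simp only [PairData.pt, P.xs.eq hX.pt, P.xs.eq hY.pt, P.xs.eq h1.pt, P.xs.eq (hl o).pt,
      P.xs.eq (hl (o ^ 2)).pt]
    exact ptv_line hK hX.pt.2 hY.pt.2 hXY ho
  have hfix : φ (q : G) = q := by
    rcases P.he.ker _ hq with r | r
    · rw [r, Subgroup.coe_one, map_one]
    · rw [r]; exact ha
  set q' : ↥(Subgroup.centralizer ({a} : Set G)) :=
    ⟨P.pt X, mem_cent (sm hX.pt).2.2⟩ * ⟨P.pt Y, mem_cent (sm hY.pt).2.2⟩ *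
      ⟨P.pt Z1, mem_cent (sm p1).2.2⟩ * ⟨P.pt Z2, mem_cent (sm p2).2.2⟩ *
      ⟨P.pt Z3, mem_cent (sm p3).2.2⟩ with hq'def
  have hqq : q' = q := Subtype.ext (by
    rw [← hfix]
    simp only [hqdef, hq'def, Subgroup.coe_mul]
    rw [map_mul, map_mul, map_mul, map_mul, hτ X hX, hτ Y hY, hτ _ h1, hτ _ (hl o),
      hτ _ (hl (o ^ 2)), tX, tY, zero_smul, add_zero, add_zero])
  let Ys : List (Vec K) := [X, Y, Z1, Z2, Z3]
  have hmk : (QuotientGroup.mk (Ys.map (tv hK)).prod : Cfsg.PSU 6 K 2) = 1 := by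
    have e1 : π q' = 1 := by rw [hqq]; exact hq
    rw [hq'def] at e1
    simp only [map_mul, PairData.pt, P.xs.eq hX.pt, P.xs.eq hY.pt, P.xs.eq p1, P.xs.eq p2,
      P.xs.eq p3] at e1
    simpa [Ys, ptv, QuotientGroup.mk_mul, mul_assoc] using e1
  have memP : ∀ v ∈ Ys, ∃ a₁ b₁ c₁ : K, v = a₁ • P.B + b₁ • X + c₁ • Y := by
    simp only [Ys, List.mem_cons, List.not_mem_nil, or_false]
    rintro v (rfl | rfl | rfl | rfl | rfl)
    exacts [⟨0, 1, 0, by simp⟩, ⟨0, 0, 1, by simp⟩, ⟨t1, 1, 1, by simp [Z1]; abel⟩,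
      ⟨tw, 1, o, by simp [Z2]; abel⟩, ⟨tv2, 1, o ^ 2, by simp [Z3]; abel⟩]
  have yorth : ∀ v ∈ Ys, ∀ v' ∈ Ys, hb v v' = 0 := fun v hv v' hv' => by
    obtain ⟨a₁, b₁, c₁, rfl⟩ := memP v hv
    obtain ⟨a₂, b₂, c₂, rfl⟩ := memP v' hv'
    exact hb_comb3 hK P.pB.2 hX.pt.2 hY.pt.2 ((hb_eq_zero_comm hK).mp hX.orth)
      ((hb_eq_zero_comm hK).mp hY.orth) hXY a₁ b₁ c₁ a₂ b₂ c₂
  have hact := act_tv_prod hK Ys (fun v hv => yorth v hv v hv) yorth
  have hone : (Ys.map (tv hK)).prod = 1 := by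
    refine central_sq_eq_one hK ((QuotientGroup.eq_one_iff _).mp hmk) (act_ext fun x => ?_)
    rw [act_mul, act_one, hact x, hact]
    have hz0 : ∀ v ∈ Ys, hb ((Ys.map fun w => hb x w • w).sum) v = 0 := by
      intro v hv
      simp only [Ys, List.map_cons, List.map_nil, List.sum_cons, List.sum_nil, hb_add_left,
        hb_smul_left, hb_zero_left]
      rw [yorth X (by simp [Ys]) v hv, yorth Y (by simp [Ys]) v hv,
        yorth Z1 (by simp [Ys]) v hv, yorth Z2 (by simp [Ys]) v hv, yorth Z3 (by simp [Ys]) v hv]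
      simp
    rw [show (Ys.map fun w => hb (x + (Ys.map fun w => hb x w • w).sum) w • w) =
      Ys.map fun w => hb x w • w from List.map_congr_left fun w hw => by
        rw [hb_add_left, hz0 w hw, add_zero]]
    rw [add_assoc, vec_add_self hK, add_zero]
  obtain ⟨x, hx⟩ := solve hK hli (Fin.snoc ![1, 0] 0)
  have xB := hx (0 : Fin 2).castSucc
  have xX := hx (1 : Fin 2).castSucc
  have xY := hx (Fin.last 2)
  rw [Fin.snoc_castSucc, Fin.snoc_castSucc] at xB xX
  rw [Fin.snoc_last, Fin.snoc_last] at xY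
  simp only [Matrix.cons_val_zero, Matrix.cons_val_one] at xB xX
  have hsum := hact x
  rw [hone, act_one, left_eq_add] at hsum
  simp only [Ys, Z1, Z2, Z3, List.map_cons, List.map_nil, List.sum_cons, List.sum_nil,
    hb_add_right hK, hb_smul_right, xB, xX, xY, mul_one, mul_zero, zero_add] at hsum
  obtain ⟨cB, cX, cY⟩ := coef (t1 ^ 2 * t1 + tw ^ 2 * tw + tv2 ^ 2 * tv2)
    (t1 ^ 2 + tw ^ 2 + tv2 ^ 2) (t1 ^ 2 + tw ^ 2 * o + tv2 ^ 2 * o ^ 2) (by
      linear_combination (norm := module) hsum)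
  have e2 := two_zero hK
  have ev : tv2 ^ 2 = o * tw ^ 2 := by
    linear_combination o ^ 2 * (cX + cY) - (tw ^ 2 * o + tv2 ^ 2 * (o ^ 2 - o + 1)) * ho +
      (tv2 ^ 2 - o ^ 2 * t1 ^ 2) * e2
  have ev' : tv2 = o ^ 2 * tw := by
    have := congrArg (fun y : K => y ^ 2) ev
    simpa only [mul_pow, sq_sq hK] using this
  have et1 : t1 = o * tw := by
    have h1 : t1 ^ 2 = o ^ 2 * tw ^ 2 := by
      linear_combination cX - ev - tw ^ 2 * ho
    have := congrArg (fun y : K => y ^ 2) h1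
    simpa only [mul_pow, sq_sq hK] using this
  have tw0 : tw = 0 := by
    have h3 := H93.pow_three hK ho0
    rw [ev', et1] at cB
    have : tw ^ 3 = 0 := by
      linear_combination cB - (o ^ 3 + 2) * tw ^ 3 * h3 - tw ^ 3 * e2
    exact (pow_eq_zero_iff (by norm_num)).mp this
  by_cases k0 : k = 0
  · rw [k0, zero_smul, add_zero, tX]
  have : (k - 1) * (k - o) * (k - o ^ 2) = 0 := by
    linear_combination H93.pow_three hK k0 + (-k ^ 2 + o * k) * ho + ((1 : K) - o) * ho
  rcases mul_eq_zero.mp this with q0 | q0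
  · rcases mul_eq_zero.mp q0 with q1 | q1
    · rw [sub_eq_zero.mp q1, one_smul, ← ht1, et1, tw0, mul_zero]
    · rw [sub_eq_zero.mp q1, ← htw, tw0]
  · rw [sub_eq_zero.mp q0, ← htv2, ev', tw0, mul_zero]

end Cfsg.Agent.H18.Fi22Pair
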